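import Groth.Prelude.Def_AlgSp2

/-!
Points of a fibre product of sheaves: `|P| ⟶ |Z| ×_{|Y|} |X|` is surjective, for arbitrary fppf
sheaves.
-/

set_option autoImplicit false
universe u
open CategoryTheory CategoryTheory.Limits AlgebraicGeometry Opposite
open AlgSp

namespace K630

variable {S : Scheme.{u}}

theorem points_exists_lift {X Y Z P : Sp S} {f : X ⟶ Y} {g : Z ⟶ Y} {fst : P ⟶ Z} {snd : P ⟶ X}
    (h : IsPullback fst snd g f) (z : Points Z) (x : Points X)
    (e : Points.map g z = Points.map f x) :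
    ∃ p : Points P, Points.map fst p = z ∧ Points.map snd p = x := by
  induction z using Points.ind with
  | h p =>
  induction x using Points.ind with
  | h q =>
  rw [Points.map_mk, Points.map_mk, Points.mk_eq_mk_iff] at e
  obtain ⟨Ω, _, w, a, b, hab⟩ := e
  let Y1 := GrothendieckTopology.uliftYonedaEquiv.{u + 1} (J S) (X := Over.mk w) (F := Z)
  let Y2 := GrothendieckTopology.uliftYonedaEquiv.{u + 1} (J S) (X := Over.mk w) (F := X)
  let Y3 := GrothendieckTopology.uliftYonedaEquiv.{u + 1} (J S) (X := Over.mk w) (F := Y)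
  let Y4 := GrothendieckTopology.uliftYonedaEquiv.{u + 1} (J S) (X := Over.mk w) (F := P)
  let zz : (yon S).obj (Over.mk w) ⟶ Z := Y1.symm (Z.obj.map a.op p.val)
  let xx : (yon S).obj (Over.mk w) ⟶ X := Y2.symm (X.obj.map b.op q.val)
  have hzx : zz ≫ g = xx ≫ f := by
    apply Y3.injective
    have e1 : Y3 (zz ≫ g) = g.hom.app _ (Y1 zz) :=
      GrothendieckTopology.uliftYonedaEquiv_comp (J S) zz g
    have e2 : Y3 (xx ≫ f) = f.hom.app _ (Y2 xx) :=
      GrothendieckTopology.uliftYonedaEquiv_comp (J S) xx f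
    rw [e1, e2, Equiv.apply_symm_apply, Equiv.apply_symm_apply, NatTrans.naturality_apply,
      NatTrans.naturality_apply]
    exact hab
  let r : FieldPt P := ⟨Ω, w, Y4 (h.lift zz xx hzx)⟩
  have hr1 : (r.map fst).val = Z.obj.map a.op p.val := by
    have e1 : Y1 (h.lift zz xx hzx ≫ fst) = fst.hom.app _ (Y4 (h.lift zz xx hzx)) :=
      GrothendieckTopology.uliftYonedaEquiv_comp (J S) _ fst
    rw [IsPullback.lift_fst, Equiv.apply_symm_apply] at e1
    exact e1.symm
  have hr2 : (r.map snd).val = X.obj.map b.op q.val := by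
    have e1 : Y2 (h.lift zz xx hzx ≫ snd) = snd.hom.app _ (Y4 (h.lift zz xx hzx)) :=
      GrothendieckTopology.uliftYonedaEquiv_comp (J S) _ snd
    rw [IsPullback.lift_snd, Equiv.apply_symm_apply] at e1
    exact e1.symm
  refine ⟨Points.mk r, ?_, ?_⟩
  · rw [Points.map_mk, Points.mk_eq_mk_iff]
    refine ⟨Ω, inferInstance, w, 𝟙 _, a, ?_⟩
    rw [hr1]
    exact Functor.map_id_apply Z.obj (op (Over.mk w)) _
  · rw [Points.map_mk, Points.mk_eq_mk_iff]
    refine ⟨Ω, inferInstance, w, 𝟙 _, b, ?_⟩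
    rw [hr2]
    exact Functor.map_id_apply X.obj (op (Over.mk w)) _

end K630
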