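import Groth.Agent.AlgSp.K597.EtLoc
import Groth.Agent.AlgSp.K597.LocP
import Groth.Agent.AlgSp.K609.Points
import Groth.Agent.AlgSp.K610.Factor
import Groth.Agent.AlgSp.K610.Sub
import Groth.Agent.AlgSp.K613.Chart
import Groth.Agent.AlgSp.K630.PtsPullback

/-!
Foundations in `Sp S` form used in `K630`: fibre products, calculus of `LocP`, points, open
subspaces, etale morphisms.
-/

set_option autoImplicit false
universe u
open CategoryTheory CategoryTheory.Limits AlgebraicGeometry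
open AlgSp

namespace K630

variable {S : Scheme.{u}}

/-- An algebraic space as an object of `Space S`. -/
abbrev mkS {X : Sp S} (h : IsAlgSpace X) : Space S := ⟨X, h⟩

/-- A morphism of sheaves as a morphism of `Space S`. -/
abbrev mkH {X Y : Sp S} (hX : IsAlgSpace X) (hY : IsAlgSpace Y) (f : X ⟶ Y) : mkS hX ⟶ mkS hY :=
  ObjectProperty.homMk f

/-- The listed classes of morphisms of schemes. -/
def Good (P : MorphismProperty Scheme.{u}) : Prop :=
  P = @LocallyOfFiniteType ∨ P = @LocallyOfFinitePresentation ∨ P = @Flat ∨ P = @Smooth ∨ P = @Etale ∨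
      (∀ ⦃A B : Scheme.{u}⦄ (g : A ⟶ B), P g ↔ (LocallyQuasiFinite g ∧ LocallyOfFiniteType g)) ∨
      (∀ ⦃A B : Scheme.{u}⦄ (g : A ⟶ B), P g ↔ (LocallyOfFiniteType g ∧ FormallyUnramified g))

theorem good_lft : Good (@LocallyOfFiniteType : MorphismProperty Scheme.{u}) := Or.inl rfl
theorem good_lfp : Good (@LocallyOfFinitePresentation : MorphismProperty Scheme.{u}) :=
  Or.inr (Or.inl rfl)
theorem good_flat : Good (@Flat : MorphismProperty Scheme.{u}) := Or.inr (Or.inr (Or.inl rfl))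
theorem good_smooth : Good (@Smooth : MorphismProperty Scheme.{u}) :=
  Or.inr (Or.inr (Or.inr (Or.inl rfl)))
theorem good_etale : Good (@Etale : MorphismProperty Scheme.{u}) :=
  Or.inr (Or.inr (Or.inr (Or.inr (Or.inl rfl))))

theorem isAlgSpace_of_isPullback {X Y Z P : Sp S} (hX : IsAlgSpace X) (hY : IsAlgSpace Y)
    (hZ : IsAlgSpace Z) {f : X ⟶ Z} {g : Y ⟶ Z} {fst : P ⟶ X} {snd : P ⟶ Y}
    (h : IsPullback fst snd f g) : IsAlgSpace P :=
  K613.Chart.isAlgSpace_of_isPullback hZ.diag hX hY h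

theorem locP_baseChange {P : MorphismProperty Scheme.{u}} (hP : Good P) {X Y Y' X' : Sp S}
    (hX : IsAlgSpace X) (hY : IsAlgSpace Y) (hY' : IsAlgSpace Y')
    {f : X ⟶ Y} {g : Y' ⟶ Y} {fst : X' ⟶ X} {f' : X' ⟶ Y'}
    (sq : IsPullback fst f' f g) (hf : LocP P f) : LocP P f' :=
  have := K597.stableBC_of_listed hP
  K597.locP_bc (K597.etLoc_of_listed hP) sq hX.hasAtlas hY.hasAtlas hY'.hasAtlas hf

theorem locP_comp {P : MorphismProperty Scheme.{u}} (hP : Good P) {X Y Z : Sp S}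
    (hX : IsAlgSpace X) (hY : IsAlgSpace Y) (hZ : IsAlgSpace Z)
    {f : X ⟶ Y} {g : Y ⟶ Z} (hf : LocP P f) (hg : LocP P g) : LocP P (f ≫ g) :=
  have := K597.stableComp_of_listed hP
  K597.locP_comp (K597.etLoc_of_listed hP) hX.hasAtlas hY.hasAtlas hZ.hasAtlas hf hg

/-- one chart criterion -/
theorem locP_of_chart {P : MorphismProperty Scheme.{u}} (hP : Good P) {X Y : Sp S}
    (f : X ⟶ Y) {U V : Over S}
    (a : (yon S).obj U ⟶ X) (b : (yon S).obj V ⟶ Y) (h : U ⟶ V) (ha : RepWith @Etale a)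
    (has : RepWith @Surjective a) (hb : RepWith @Etale b) (comm : a ≫ f = (yon S).map h ≫ b)
    (hh : P h.left) : LocP P f :=
  K597.locP_of_chart (K597.etLoc_of_listed hP) f a b h ha has hb comm hh

theorem locP_iff_repWith {P : MorphismProperty Scheme.{u}} (hP : Good P) {X Y : Sp S}
    (hY : IsAlgSpace Y) (f : X ⟶ Y) (hf : Representable f) :
    LocP P f ↔ RepWith P f :=
  have := K597.stableBC_of_listed hP
  K597.locP_iff_repWith (K597.etLoc_of_listed hP) hY.hasAtlas hf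

theorem exists_chart_lift {X Y : Sp S} (hX : IsAlgSpace X)
    (a : X ⟶ Y) {V : Over S}
    (q : (yon S).obj V ⟶ Y) (hqe : RepWith @Etale q) (hqs : RepWith @Surjective q) :
    ∃ (U : Over S) (p : (yon S).obj U ⟶ X) (α : U ⟶ V),
      RepWith @Etale p ∧ RepWith @Surjective p ∧ p ≫ a = (yon S).map α ≫ q := by
  obtain ⟨U₀, a₀, h1, h2⟩ := hX.atlas
  obtain ⟨U, p, α, h3, h4, h5⟩ := K597.exists_chart_over a a₀ h1 h2 q hqe hqs
  exact ⟨U, p, α, h3, h4, h5⟩

theorem isOpenMap_ofPt {X : Sp S} {U : Over S}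
    (a : (yon S).obj U ⟶ X) (ha : RepWith @Etale a) : IsOpenMap (Points.ofPt a) :=
  K609.Points.isOpenMap_ofPt ha

theorem isQuotientMap_ofPt {X : Sp S} {U : Over S}
    (a : (yon S).obj U ⟶ X) (ha : RepWith @Etale a) (hs : RepWith @Surjective a) :
    Topology.IsQuotientMap (Points.ofPt a) :=
  K609.Points.isQuotientMap_ofPt ha hs

theorem factors_open_iff {X X' Y : Sp S} (j : X' ⟶ X) (hj : RepWith @IsOpenImmersion j)
    (f : Y ⟶ X) :
    (∃ g : Y ⟶ X', g ≫ j = f) ↔ Set.range (Points.map f) ⊆ Set.range (Points.map j) :=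
  K610.Factor.factors_open_iff hj f

theorem exists_open_subspace {X : Sp S} (hX : IsAlgSpace X) (W : Set (Points X)) (hW : IsOpen W) :
    ∃ (X' : Sp S) (_ : IsAlgSpace X') (j : X' ⟶ X),
      RepWith @IsOpenImmersion j ∧ Set.range (Points.map j) = W := by
  obtain ⟨X', j, h1, h2⟩ := K610.Sub.exists_open_subspace (mkS hX) W hW
  exact ⟨X'.obj, X'.property, j.hom, h1, h2⟩

theorem isEtaleMor_iff {X Y : Sp S} (hY : IsAlgSpace Y) {f : X ⟶ Y} :
    IsEtaleMor f ↔ LocP @Etale f :=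
  ⟨K597.locP_etale_of_isEtaleMor, K597.isEtaleMor_of_locP_etale K597.etLoc_etale hY⟩

theorem isEtaleMor_baseChange {X Y Z P : Sp S} (hX : IsAlgSpace X) (hY : IsAlgSpace Y)
    (hZ : IsAlgSpace Z) {f : X ⟶ Y} {g : Z ⟶ Y}
    {fst : P ⟶ Z} {snd : P ⟶ X} (h : IsPullback fst snd g f) (hf : IsEtaleMor f) :
    IsEtaleMor fst :=
  (isEtaleMor_iff hZ).2 (locP_baseChange good_etale hX hY hZ h.flip ((isEtaleMor_iff hY).1 hf))

theorem isEtaleMor_of_comp {X Y Z : Sp S} (hX : IsAlgSpace X) (hY : IsAlgSpace Y)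
    (hZ : IsAlgSpace Z) {f : X ⟶ Y} {h : Y ⟶ Z} (hg : IsEtaleMor (f ≫ h)) (hh : IsEtaleMor h) :
    IsEtaleMor f :=
  (isEtaleMor_iff hY).2 (K597.locP_of_comp K597.etLoc_etale (Q := @Etale)
    (fun _ _ _ u v huv hv => K597.etLoc_etale.cancel u v hv huv)
    hX.hasAtlas hY.hasAtlas hZ.hasAtlas ((isEtaleMor_iff hZ).1 hg) ((isEtaleMor_iff hZ).1 hh))

end K630
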