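import Mathlib.AlgebraicGeometry.Sites.Fpqc
import Mathlib.CategoryTheory.Sites.Over
import Groth.Prelude.Def_AlgSpCov

/-!
Basic facts on fpqc coverings of schemes over `S` by finite families of affine schemes.
-/

set_option autoImplicit false
universe w' w v u
open CategoryTheory CategoryTheory.Limits AlgebraicGeometry Opposite
open AlgSp

namespace K630

section Glue

variable {C : Type u} [Category.{v} C] (K : GrothendieckTopology C) {ι : Type w'}
  {T B : Cᵒᵖ ⥤ Type w} {Ti : ι → (Cᵒᵖ ⥤ Type w)} (g : ∀ i, Ti i ⟶ T)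

/-- The sieve of maps along which a section lifts to some member of the family. -/
def liftSieve {Z : C} (t : T.obj (op Z)) : Sieve Z where
  arrows Y h := ∃ (i : ι) (t' : (Ti i).obj (op Y)), (g i).app _ t' = T.map h.op t
  downward_closed := by
    rintro Y Z' f ⟨i, t', e⟩ k
    refine ⟨i, (Ti i).map k.op t', ?_⟩
    rw [NatTrans.naturality_apply, e, op_comp, Functor.map_comp_apply]

variable {g}

theorem ext_of_liftSieve (hB : Presieve.IsSeparated K B)
    (hcov : ∀ (Z : C) (t : T.obj (op Z)), liftSieve g t ∈ K Z) (a b : T ⟶ B)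
    (h : ∀ i, g i ≫ a = g i ≫ b) : a = b := by
  ext Z t
  refine (hB _ (hcov Z.unop t)).ext fun Y k hk => ?_
  obtain ⟨i, t', e⟩ := hk
  have e1 := NatTrans.naturality_apply a k.op t
  have e2 := NatTrans.naturality_apply b k.op t
  have e3 : (g i ≫ a).app _ t' = (g i ≫ b).app _ t' := by rw [h i]
  have e4 : a.app (op Y) ((g i).app _ t') = b.app (op Y) ((g i).app _ t') := e3
  rw [e] at e4
  exact e1.symm.trans (e4.trans e2)

theorem exists_of_liftSieve (hB : Presieve.IsSheaf K B)
    (hcov : ∀ (Z : C) (t : T.obj (op Z)), liftSieve g t ∈ K Z) (b : ∀ i, Ti i ⟶ B)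
    (hc : ∀ (Z : C) (i j : ι) (x : (Ti i).obj (op Z)) (y : (Ti j).obj (op Z)),
      (g i).app _ x = (g j).app _ y → (b i).app _ x = (b j).app _ y) :
    ∃ β : T ⟶ B, ∀ i, g i ≫ β = b i := by
  -- the family of elements over the sieve of `t`
  let fam : ∀ {Z : C} (t : T.obj (op Z)), Presieve.FamilyOfElements B (liftSieve g t).arrows :=
    fun {Z} t Y k hk => (b hk.choose).app _ hk.choose_spec.choose
  have hfam : ∀ {Z : C} (t : T.obj (op Z)) {Y : C} (k : Y ⟶ Z) (hk : (liftSieve g t).arrows k)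
      (i : ι) (x : (Ti i).obj (op Y)), (g i).app _ x = T.map k.op t →
      fam t k hk = (b i).app _ x := fun {Z} t Y k hk i x hx =>
    hc Y _ _ _ _ (hk.choose_spec.choose_spec.trans hx.symm)
  have hcomp : ∀ {Z : C} (t : T.obj (op Z)), (fam t).Compatible := by
    intro Z t
    refine Presieve.compatible_iff_sieveCompatible _ |>.2 ?_
    intro Y Y' k l hk
    obtain ⟨i, x, hx⟩ := hk
    rw [hfam t k ⟨i, x, hx⟩ i x hx, hfam t (l ≫ k) _ i ((Ti i).map l.op x) (by
      rw [NatTrans.naturality_apply, hx, op_comp, Functor.map_comp_apply])]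
    exact NatTrans.naturality_apply (b i) l.op x
  let val : ∀ {Z : C} (t : T.obj (op Z)), B.obj (op Z) := fun {Z} t =>
    (hB _ (hcov Z t)).amalgamate (fam t) (hcomp t)
  have hval : ∀ {Z : C} (t : T.obj (op Z)) {Y : C} (k : Y ⟶ Z)
      (i : ι) (x : (Ti i).obj (op Y)), (g i).app _ x = T.map k.op t →
      B.map k.op (val t) = (b i).app _ x := fun {Z} t Y k i x hx => by
    have hk : (liftSieve g t).arrows k := ⟨i, x, hx⟩
    rw [← hfam t k hk i x hx]
    exact (hB _ (hcov Z t)).valid_glue (hcomp t) k hk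
  refine ⟨{ app := fun Z => ↾fun t => val t, naturality := ?_ }, ?_⟩
  · intro Z Z' l
    ext t
    change val (T.map l t) = B.map l (val t)
    refine (hB _ (hcov Z'.unop (T.map l t))).isSeparatedFor.ext fun Y k hk => ?_
    obtain ⟨i, x, hx⟩ := hk
    rw [hval _ k i x hx, ← Functor.map_comp_apply]
    refine (hval t (k ≫ l.unop) i x ?_).symm
    rw [hx, ← Functor.map_comp_apply]
    rfl
  · intro i
    ext Z x
    change val ((g i).app Z x) = (b i).app Z x
    have := hval ((g i).app Z x) (𝟙 Z.unop) i x (by simp)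
    simpa using this

end Glue

variable {S : Scheme.{u}}

/-- A jointly surjective finite family of flat maps from affine schemes to an affine scheme is
covering in the fpqc topology. -/
theorem ofArrows_mem_fpqcTopology {Z : Scheme.{u}} [IsAffine Z] {m : ℕ} (W : Fin m → Scheme.{u})
    (c : ∀ j, W j ⟶ Z) (hW : ∀ j, IsAffine (W j)) (hc : ∀ j, Flat (c j))
    (hs : ∀ z : Z, ∃ j, z ∈ Set.range (c j)) :
    Sieve.ofArrows W c ∈ Scheme.fpqcTopology Z := by
  let 𝒱 : Z.Cover (Scheme.precoverage @Flat) :=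
    { I₀ := ULift.{u} (Fin m)
      X := fun j => W j.down
      f := fun j => c j.down
      mem₀ := by
        rw [Scheme.presieve₀_mem_precoverage_iff]
        exact ⟨fun z => by
          obtain ⟨j, hj⟩ := hs z
          exact ⟨⟨j⟩, hj⟩, fun j => hc j.down⟩ }
  have hfin : Finite 𝒱.I₀ := inferInstanceAs (Finite (ULift (Fin m)))
  have hqc' : ∀ i, QuasiCompact (𝒱.f i) := fun i => by
    have : IsAffine (W i.down) := hW i.down
    have : IsAffineHom (c i.down) := inferInstance
    exact (inferInstance : QuasiCompact (c i.down))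
  have hqc : QuasiCompactCover 𝒱.toPreZeroHypercover := QuasiCompactCover.of_finite
  have := Scheme.Cover.mem_propQCTopology 𝒱
  refine (Scheme.fpqcTopology).superset_covering ?_ this
  rw [Sieve.ofArrows, Sieve.generate_le_iff]
  rintro Y f ⟨j⟩
  exact Sieve.ofArrows_mk W c j.down

/-- Criterion for a sieve of `Over S` to be covering for the fpqc topology. -/
theorem mem_fpqcTopology_over {Z : Over S} (R : Sieve Z)
    (h : ∀ (U : Z.left.Opens), IsAffineOpen U →
      ∃ (m : ℕ) (W : Fin m → Over S) (c : ∀ j, W j ⟶ Over.mk (U.ι ≫ Z.hom)),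
        (∀ j, IsAffine (W j).left) ∧ (∀ j, Flat (c j).left) ∧
        (∀ z : U, ∃ j, z ∈ Set.range (c j).left) ∧
        ∀ j, R.arrows (c j ≫ Over.homMk U.ι)) :
    R ∈ (Scheme.fpqcTopology.over S) Z := by
  rw [GrothendieckTopology.mem_over_iff]
  let 𝒰 := Z.left.affineOpenCover
  have h1 : Sieve.ofArrows 𝒰.openCover.X 𝒰.openCover.f ∈ Scheme.fpqcTopology Z.left :=
    Scheme.zariskiTopology_le_fpqcTopology _ 𝒰.openCover.mem_grothendieckTopology
  refine Scheme.fpqcTopology.transitive h1 _ ?_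
  intro Y f hf
  obtain ⟨Y', a, b, ⟨i⟩, rfl⟩ := hf
  rw [Sieve.pullback_comp]
  refine Scheme.fpqcTopology.pullback_stable _ ?_
  -- the affine open `U = range 𝒰.f i`
  let U : Z.left.Opens := (𝒰.openCover.f i).opensRange
  have hU : IsAffineOpen U := isAffineOpen_opensRange _
  obtain ⟨m, W, c, hWa, hcf, hcs, hR⟩ := h U hU
  have : IsAffine (U : Scheme.{u}) := hU
  have h2 := ofArrows_mem_fpqcTopology (Z := (U : Scheme.{u})) (fun j => (W j).left)
    (fun j => (c j).left) hWa hcf hcs
  let e : 𝒰.openCover.X i ≅ (U : Scheme.{u}) := (𝒰.openCover.f i).isoOpensRange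
  have he : e.hom ≫ U.ι = 𝒰.openCover.f i := (𝒰.openCover.f i).isoOpensRange_hom_ι
  rw [← he, Sieve.pullback_comp]
  refine Scheme.fpqcTopology.pullback_stable _ ?_
  refine Scheme.fpqcTopology.superset_covering ?_ h2
  rw [Sieve.ofArrows, Sieve.generate_le_iff]
  rintro Y f ⟨j⟩
  rw [Sieve.pullback_apply, Sieve.overEquiv_iff]
  have hj := R.downward_closed (hR j) (Over.homMk (𝟙 _) (by
    have := Over.w (c j)
    dsimp at this ⊢
    rw [Category.id_comp, ← this, Category.assoc]) :
      Over.mk (((c j).left ≫ U.ι) ≫ Z.hom) ⟶ W j)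
  convert hj using 1
  ext
  simp

/-- A subset of an affine scheme whose preimages under a finite jointly surjective family of flat
maps from affine schemes are open is open. -/
theorem isOpen_of_flat_family {Z : Scheme.{u}} [IsAffine Z] {m : ℕ} (W : Fin m → Scheme.{u})
    (c : ∀ j, W j ⟶ Z) (hW : ∀ j, IsAffine (W j)) (hc : ∀ j, Flat (c j))
    (hs : ∀ z : Z, ∃ j, z ∈ Set.range (c j)) (A : Set Z) (hA : ∀ j, IsOpen ((c j) ⁻¹' A)) :
    IsOpen A := by
  let W' : ULift.{u} (Fin m) → Scheme.{u} := fun j => W j.down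
  let d : (∐ W') ⟶ Z := Sigma.desc fun j => c j.down
  have hfl : Flat d := by
    refine (IsZariskiLocalAtSource.iff_of_openCover (P := @Flat) (sigmaOpenCover W')).2
      fun j => ?_
    change Flat (Sigma.ι W' j ≫ d)
    rw [Sigma.ι_desc]
    exact hc _
  have hsurj : Surjective d := ⟨fun z => by
    obtain ⟨j, w, hw⟩ := hs z
    refine ⟨Sigma.ι W' ⟨j⟩ w, ?_⟩
    rw [← Scheme.Hom.comp_apply, Sigma.ι_desc]
    exact hw⟩
  have : ∀ j, IsAffine (W' j) := fun j => hW _
  have hqc : QuasiCompact d := inferInstance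
  rw [← (Flat.isQuotientMap_of_surjective d).isOpen_preimage]
  refine (sigmaOpenCover W').isOpenCover_opensRange.isOpen_iff_inter.2 fun j => ?_
  have key : (d ⁻¹' A ∩ (((sigmaOpenCover W').f j).opensRange : Set (∐ W' : Scheme.{u}))) =
      Sigma.ι W' j '' ((c j.down) ⁻¹' A) := by
    ext x
    constructor
    · rintro ⟨hx, ⟨w, rfl⟩⟩
      refine ⟨w, ?_, rfl⟩
      change c j.down w ∈ A
      have : d (Sigma.ι W' j w) ∈ A := hx
      rwa [← Scheme.Hom.comp_apply, Sigma.ι_desc] at this
    · rintro ⟨w, hw, rfl⟩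
      refine ⟨?_, ⟨w, rfl⟩⟩
      change d (Sigma.ι W' j w) ∈ A
      rw [← Scheme.Hom.comp_apply, Sigma.ι_desc]
      exact hw
  rw [key]
  exact (Sigma.ι W' j).isOpenEmbedding.isOpenMap _ (hA j.down)

end K630
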