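import Groth.Agent.AlgSp.K630.ESPost

/-!
Postcomposition with etale morphisms.
-/

set_option autoImplicit false
universe u
open CategoryTheory CategoryTheory.Limits AlgebraicGeometry

namespace K630.ES

variable {S : Scheme.{u}} {Q : ∀ ⦃X Y : Scheme.{u}⦄, (X ⟶ Y) → (Y ⟶ S) → Prop}

open Polynomial in
theorem bdd_of_isStandardEtale (R A : Type u) [CommRing R] [CommRing A] [Algebra R A]
    [Algebra.IsStandardEtale R A] : ∃ N, Bdd (Spec.map (CommRingCat.ofHom (algebraMap R A))) N := by
  classical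
  obtain ⟨⟨P⟩⟩ := ‹Algebra.IsStandardEtale R A›
  refine ⟨P.f.natDegree, fun K _ ι _ s t hs hι => ?_⟩
  by_contra hc
  push Not at hc
  let ψ : R →+* K := (Spec.preimage t).hom
  algebraize [ψ]
  have hs' : ∀ i, (Spec.preimage (s i)).hom.comp (algebraMap R A) = algebraMap R K := fun i => by
    have h1 : CommRingCat.ofHom (algebraMap R A) ≫ Spec.preimage (s i) = Spec.preimage t := by
      apply Spec.map_injective
      rw [Spec.map_comp, Spec.map_preimage, Spec.map_preimage]
      exact hs i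
    exact congrArg CommRingCat.Hom.hom h1
  let φ : ι → (A →ₐ[R] K) := fun i => { (Spec.preimage (s i)).hom with
    commutes' := fun r => RingHom.congr_fun (hs' i) r }
  have hφ : ∀ i j, φ i P.x = φ j P.x → i = j := fun i j h => by
    by_contra hij
    apply hc i j hij
    have h1 := P.hom_ext h
    have h2 : Spec.preimage (s i) = Spec.preimage (s j) := by
      ext a
      exact AlgHom.congr_fun h1 a
    rw [← Spec.map_preimage (s i), h2, Spec.map_preimage]
  have h0 : P.f.map ψ ≠ 0 := (P.monic_f.map ψ).ne_zero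
  have h1 : ∀ i, φ i P.x ∈ (P.f.map ψ).roots.toFinset := fun i => by
    rw [Multiset.mem_toFinset, mem_roots h0, IsRoot.def, eval_map]
    have := P.hasMap.map (φ i)
    exact this.1
  have h2 : Fintype.card ι ≤ (P.f.map ψ).roots.toFinset.card := by
    rw [← Finset.card_univ]
    exact Finset.card_le_card_of_injOn (fun i => φ i P.x) (fun i _ => h1 i)
      (fun i _ j _ h => hφ i j h)
  have h3 := (Multiset.toFinset_card_le (P.f.map ψ).roots).trans (card_roots' (P.f.map ψ))
  have h4 := P.monic_f.natDegree_map ψ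
  omega

/-- `Q` is stable under postcomposition with etale morphisms. -/
theorem Hyp.post (H : Hyp S Q) {X V Z : Scheme.{u}} (f : X ⟶ V) (g : V ⟶ Z) [Etale g]
    (z : Z ⟶ S) (hf : Q f (g ≫ z)) : Q (f ≫ g) z := by
  have key : ∀ x : X, ∃ (W : Scheme.{u}) (j : W ⟶ V) (Z' : Scheme.{u}) (i : Z' ⟶ Z) (g' : W ⟶ Z')
      (N : ℕ), IsOpenImmersion j ∧ IsOpenImmersion i ∧ Etale g' ∧ IsSeparated g' ∧ Bdd g' N ∧
      j ≫ g = g' ≫ i ∧ f x ∈ Set.range j := by
    intro x
    obtain ⟨_, ⟨Z0, hZ0, rfl⟩, hz, -⟩ := Z.isBasis_affineOpens.exists_subset_of_mem_open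
      (Set.mem_univ (g (f x))) isOpen_univ
    obtain ⟨_, ⟨V0, hV0, rfl⟩, hv, hV⟩ := V.isBasis_affineOpens.exists_subset_of_mem_open
      (show f x ∈ g ⁻¹ᵁ Z0 from hz) (g ⁻¹ᵁ Z0).isOpen
    have hV' : V0 ≤ g ⁻¹ᵁ Z0 := hV
    have het := g.etale_appLE hZ0 hV0 hV'
    algebraize [(g.appLE Z0 V0 hV').hom]
    let y := hV0.primeIdealOf ⟨f x, hv⟩
    obtain ⟨r, hr, hst⟩ := Algebra.IsEtaleAt.exists_isStandardEtale (R := Γ(Z, Z0)) y.asIdeal
    obtain ⟨N, hN⟩ := bdd_of_isStandardEtale Γ(Z, Z0) (Localization.Away r)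
    refine ⟨Spec (.of (Localization.Away r)),
      Spec.map (CommRingCat.ofHom (algebraMap Γ(V, V0) (Localization.Away r))) ≫ hV0.fromSpec,
      Spec Γ(Z, Z0), hZ0.fromSpec, _, N, inferInstance, inferInstance, ?_, inferInstance, hN,
      ?_, ?_⟩
    · rw [HasRingHomProperty.Spec_iff (P := @Etale)]
      exact (RingHom.etale_algebraMap).2 inferInstance
    · have h1 : CommRingCat.ofHom (algebraMap Γ(Z, Z0) (Localization.Away r)) =
          g.appLE Z0 V0 hV' ≫
            CommRingCat.ofHom (algebraMap Γ(V, V0) (Localization.Away r)) := by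
        ext1
        exact IsScalarTower.algebraMap_eq _ _ _
      rw [h1, Spec.map_comp, Category.assoc, Category.assoc,
        IsAffineOpen.SpecMap_appLE_fromSpec g hZ0 hV0 hV']
    · have h1 : y ∈ PrimeSpectrum.basicOpen r := hr
      rw [← SetLike.mem_coe, ← PrimeSpectrum.localization_away_comap_range (Localization.Away r) r]
        at h1
      obtain ⟨w, hw⟩ := h1
      refine ⟨w, ?_⟩
      rw [Scheme.Hom.comp_apply]
      have : Spec.map (CommRingCat.ofHom (algebraMap Γ(V, V0) (Localization.Away r))) w = y := hw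
      rw [this]
      exact hV0.fromSpec_primeIdealOf ⟨f x, hv⟩
  choose W j Z' i g' N hj hi hg' hs hN hc hx using key
  refine H.source (fun x => pullback f (j x)) (fun x => pullback.fst f (j x)) (f ≫ g) z
    (fun x => inferInstance) ?_ ?_
  · intro x
    obtain ⟨w, hw⟩ := hx x
    obtain ⟨v, hv, _⟩ := Scheme.Pullback.exists_preimage_pullback x w hw.symm
    exact ⟨x, v, hv⟩
  · intro x
    have h1 := H.baseChange f (j x) _ _ (g ≫ z) (IsPullback.of_hasPullback f (j x)) inferInstance
      hf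
    rw [← Category.assoc, hc x, Category.assoc] at h1
    have h2 := H.postOpen _ (i x) z inferInstance (H.post_of_bdd _ (g' x) (i x ≫ z) (N x) (hN x) h1)
    rwa [Category.assoc, ← hc x, ← Category.assoc, ← pullback.condition, Category.assoc] at h2

end K630.ES
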