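import Groth.Agent.AlgSp.K594.Cover
import Groth.Agent.AlgSp.K613.Chart
import Groth.Prelude.Def_AlgSpCov
import Mathlib.CategoryTheory.Extensive

/-!
S10571: coproducts of representable sheaves, universality, and the affine criterion for fpqc
locality on the base.
-/

set_option autoImplicit false
set_option backward.isDefEq.respectTransparency.types false
universe u
open CategoryTheory CategoryTheory.Limits AlgebraicGeometry Opposite
open AlgSp

namespace K630

open K594.Cover

variable {S : Scheme.{u}}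

/-- `h` of a disjoint union as a cofan. -/
noncomputable def sigCofan {ι : Type u} (V : ι → Over S) :
    Cofan (fun i => (yon S).obj (V i)) :=
  Cofan.mk ((yon S).obj (sig V)) fun i => (yon S).map (sigι V i)

theorem exists_desc_sig {ι : Type u} (V : ι → Over S) (F : Sp S)
    (x : ∀ i, (yon S).obj (V i) ⟶ F) :
    ∃! t : (yon S).obj (sig V) ⟶ F, ∀ i, (yon S).map (sigι V i) ≫ t = x i := by
  obtain ⟨t, ht, hu⟩ := exists_sig V F
    (fun i => GrothendieckTopology.uliftYonedaEquiv.{u + 1} (J S) (x i))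
  refine ⟨(GrothendieckTopology.uliftYonedaEquiv.{u + 1} (J S)).symm t, fun i => ?_,
    fun t' ht' => ?_⟩
  · apply (GrothendieckTopology.uliftYonedaEquiv.{u + 1} (J S)).injective
    rw [← GrothendieckTopology.uliftYonedaEquiv_naturality, Equiv.apply_symm_apply]
    exact ht i
  · rw [Equiv.eq_symm_apply]
    refine hu _ fun i => ?_
    rw [GrothendieckTopology.uliftYonedaEquiv_naturality, ht' i]

/-- `h` of a disjoint union is the coproduct. -/
noncomputable def isColimitSigCofan {ι : Type u} (V : ι → Over S) : IsColimit (sigCofan V) :=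
  Cofan.IsColimit.mk _ (fun s => (exists_desc_sig V s.pt s.inj).choose)
    (fun s i => (exists_desc_sig V s.pt s.inj).choose_spec.1 i)
    (fun s m hm => (exists_desc_sig V s.pt s.inj).choose_spec.2 m hm)

/-- Finite coproducts of sheaves are universal. -/
theorem nonempty_isColimit_pullback {ι : Type u} [Finite ι] {Y : ι → Sp S} (cY : Cofan Y)
    (hcY : IsColimit cY) {W : Sp S} (m : W ⟶ cY.pt) (X : ι → Sp S) (q : ∀ i, X i ⟶ W)
    (p : ∀ i, X i ⟶ Y i) (sq : ∀ i, IsPullback (q i) (p i) m (cY.inj i)) :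
    Nonempty (IsColimit (Cofan.mk W q)) := by
  have hu := FinitaryPreExtensive.isUniversal_finiteCoproducts hcY
  refine hu (F' := Discrete.functor X) (Cofan.mk W q) (Discrete.natTrans fun i => p i.as) m ?_
    (NatTrans.Equifibered.of_discrete _) (fun i => sq i.as)
  refine NatTrans.ext (funext fun i => ?_)
  exact (sq i.as).w.symm

/-- The affine criterion: S10571. -/
theorem isLocalOnBase_fpqc_of_affine (P : MorphismProperty (Sp S))
    (h1 : ∀ ⦃ι : Type u⦄ [Finite ι] (Xi Yi : ι → Sp S) (fi : ∀ i, Xi i ⟶ Yi i)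
      (cX : Cofan Xi) (cY : Cofan Yi) (hcX : IsColimit cX) (hcY : IsColimit cY) (m : cX.pt ⟶ cY.pt),
      (∀ i, IsAlgSpace (Xi i)) → (∀ i, IsAlgSpace (Yi i)) →
      IsAlgSpace cX.pt → IsAlgSpace cY.pt →
      (∀ i, cX.inj i ≫ m = fi i ≫ cY.inj i) → (∀ i, P (fi i)) → P m)
    (h2 : ∀ ⦃X Y : Sp S⦄, IsAlgSpace X → IsAlgSpace Y → ∀ (f : X ⟶ Y),
      P f ↔ ∀ (Z : Over S), IsAffine Z.left → ∀ (g : (yon S).obj Z ⟶ Y) (W : Sp S)
        (fst : W ⟶ X) (snd : W ⟶ (yon S).obj Z), IsAlgSpace W → IsPullback fst snd f g → P snd)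
    (h3 : ∀ ⦃Z Z' : Over S⦄ (c : Z' ⟶ Z), IsAffine Z.left → IsAffine Z'.left →
      Surjective c.left → Flat c.left →
      ∀ ⦃X X' : Sp S⦄ (f : X ⟶ (yon S).obj Z) (fst : X' ⟶ X) (f' : X' ⟶ (yon S).obj Z'),
        IsAlgSpace X → IsAlgSpace X' → IsPullback fst f' f ((yon S).map c) → P f' → P f) :
    IsLocalOnBase (IsFpqcCover (S := S)) P := by
  intro ι Y Yi g hY hYi hg X f hX Xi p q hXi sq
  constructor
  · intro hf i
    refine (h2 (hXi i) (hYi i) (p i)).2 fun Z hZ g' W fst snd hW sqW => ?_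
    exact (h2 hX hY f).1 hf Z hZ (g' ≫ g i) W (fst ≫ q i) snd hW (sqW.paste_horiz (sq i))
  · intro hp
    refine (h2 hX hY f).2 fun Z hZ h W fst snd hW sqW => ?_
    obtain ⟨m, V₀, c₀, hV₀, hc₀, hs₀, hl₀⟩ := hg.2 Z hZ h
    -- reindex
    let V : ULift.{u} (Fin m) → Over S := fun j => V₀ j.down
    let c : ∀ j, V j ⟶ Z := fun j => c₀ j.down
    let d : sig V ⟶ Z := sigDesc c
    have haff : IsAffine (sig V).left := by
      have : ∀ j : ULift.{u} (Fin m), IsAffine (V j).left := fun j => hV₀ j.down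
      exact (inferInstance : IsAffine (∐ fun j => (V j).left))
    have hfl : Flat d.left := by
      refine (IsZariskiLocalAtSource.iff_of_openCover (P := @Flat)
        (sigmaOpenCover fun j => (V j).left)).2 fun j => ?_
      change Flat (Sigma.ι (fun j => (V j).left) j ≫ Sigma.desc fun i => (c i).left)
      rw [Sigma.ι_desc]
      exact hc₀ _
    have hsu : Surjective d.left := ⟨fun z => by
      obtain ⟨j, w, hw⟩ := hs₀ z
      refine ⟨Sigma.ι (fun j => (V j).left) ⟨j⟩ w, ?_⟩
      change (Sigma.desc fun i => (c i).left) _ = z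
      rw [← Scheme.Hom.comp_apply, Sigma.ι_desc]
      exact hw⟩
    have hyon : ∀ T : Over S, IsAlgSpace ((yon S).obj T) := IsAlgSpace.yon_obj
    have sq1 := IsPullback.of_hasPullback snd ((yon S).map d)
    have hW' := K613.Chart.isAlgSpace_of_isPullback (hyon Z).diag hW (hyon (sig V)) sq1
    refine h3 d hZ haff hsu hfl snd _ _ hW hW' sq1 ?_
    have sq2 := fun j => IsPullback.of_hasPullback (pullback.snd snd ((yon S).map d))
      ((yon S).map (sigι V j))
    have hX2 := fun j => K613.Chart.isAlgSpace_of_isPullback (hyon (sig V)).diag hW' (hyon (V j))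
      (sq2 j)
    obtain ⟨hcX⟩ := nonempty_isColimit_pullback (sigCofan V) (isColimitSigCofan V)
      (pullback.snd snd ((yon S).map d)) _ _ _ sq2
    refine h1 _ (fun j => (yon S).obj (V j)) (fun j => pullback.snd _ _) (Cofan.mk _ _)
      (sigCofan V) hcX (isColimitSigCofan V) _ hX2 (fun j => hyon _) hW' (hyon _)
      (fun j => (sq2 j).w) fun j => ?_
    obtain ⟨i, l, e⟩ := hl₀ j.down
    -- the big pullback square
    have big := ((sq2 j).paste_horiz sq1).paste_horiz sqW
    have e' : ((yon S).map (sigι V j) ≫ (yon S).map d) ≫ h = l ≫ g i := by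
      rw [e, ← Functor.map_comp, sigι_desc]
    rw [e'] at big
    have sq4 := IsPullback.of_right' big (sq i)
    exact (h2 (hXi i) (hYi i) (p i)).1 (hp i) (V j) (hV₀ j.down) l _ _ _ (hX2 j) sq4

end K630
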