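import Groth.Agent.AlgSp.K630.ESEtale

/-!
The class `G` of morphisms `v : V ⟶ Y` along which `Q` descends etale locally on the source, from an
etale source over the base change.
-/

set_option autoImplicit false
universe u
open CategoryTheory CategoryTheory.Limits AlgebraicGeometry

namespace K630.ES

variable {S : Scheme.{u}} {Q : ∀ ⦃X Y : Scheme.{u}⦄, (X ⟶ Y) → (Y ⟶ S) → Prop}

/-- The class `G`. -/
def G (Q : ∀ ⦃X Y : Scheme.{u}⦄, (X ⟶ Y) → (Y ⟶ S) → Prop) {V Y : Scheme.{u}} (v : V ⟶ Y)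
    (y : Y ⟶ S) : Prop :=
  ∀ (X : Scheme.{u}) (f : X ⟶ Y) (W : Scheme.{u}) (p : W ⟶ X) (q : W ⟶ V), IsPullback p q f v →
    ∀ (U : Scheme.{u}) (e : U ⟶ W), Etale e → Q (e ≫ q) (v ≫ y) → ∀ u : U,
      ∃ (X' : Scheme.{u}) (a : X' ⟶ X), Etale a ∧ (e ≫ p) u ∈ Set.range a ∧ Q (a ≫ f) y

theorem Hyp.G_etale (H : Hyp S Q) {V Y : Scheme.{u}} (v : V ⟶ Y) (y : Y ⟶ S) [Etale v] :
    G Q v y := by
  intro X f W p q sq U e he hQ u
  have hp : Etale p := MorphismProperty.of_isPullback (P := @Etale) sq.flip inferInstance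
  refine ⟨U, e ≫ p, inferInstance, ⟨u, rfl⟩, ?_⟩
  rw [Category.assoc, sq.w, ← Category.assoc]
  exact H.post (e ≫ q) v y hQ

theorem G_comp {V₁ V₂ Y : Scheme.{u}} (v₁ : V₁ ⟶ V₂) (v₂ : V₂ ⟶ Y) (y : Y ⟶ S)
    (h₁ : G Q v₁ (v₂ ≫ y)) (h₂ : G Q v₂ y) : G Q (v₁ ≫ v₂) y := by
  intro X f W p q sq U e he hQ u
  have sq2 := IsPullback.of_hasPullback f v₂
  let m : W ⟶ pullback f v₂ := pullback.lift p (q ≫ v₁) (by rw [sq.w, Category.assoc])
  have m1 : m ≫ pullback.fst f v₂ = p := pullback.lift_fst _ _ _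
  have m2 : m ≫ pullback.snd f v₂ = q ≫ v₁ := pullback.lift_snd _ _ _
  have sq1 : IsPullback m q (pullback.snd f v₂) v₁ := by
    refine IsPullback.of_right ?_ m2 sq2
    rw [m1]
    exact sq
  obtain ⟨X₂, a₂, ha₂, ⟨u₂, hu₂⟩, hQ₂⟩ := h₁ _ _ _ _ _ sq1 U e he (by rwa [← Category.assoc]) u
  obtain ⟨X', a, ha, ⟨x, hx⟩, hQ'⟩ := h₂ _ _ _ _ _ sq2 X₂ a₂ ha₂ hQ₂ u₂
  refine ⟨X', a, ha, ⟨x, ?_⟩, hQ'⟩
  rw [hx, Scheme.Hom.comp_apply, hu₂, ← m1]
  rfl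

/-- `G` is local. -/
theorem Hyp.G_of_local (H : Hyp S Q) {V Y : Scheme.{u}} (v : V ⟶ Y) (y : Y ⟶ S)
    (h : ∀ x : V, ∃ (V₀ Y₀ : Scheme.{u}) (j : V₀ ⟶ V) (i : Y₀ ⟶ Y) (v₀ : V₀ ⟶ Y₀),
      IsOpenImmersion j ∧ IsOpenImmersion i ∧ j ≫ v = v₀ ≫ i ∧ x ∈ Set.range j ∧
      G Q v₀ (i ≫ y)) : G Q v y := by
  intro X f W p q sq U e he hQ u
  obtain ⟨V₀, Y₀, j, i, v₀, hj, hi, hc, ⟨x₀, hx₀⟩, hG⟩ := h ((e ≫ q) u)
  have sqX := IsPullback.of_hasPullback f i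
  have sqW := IsPullback.of_hasPullback q j
  have sqU := IsPullback.of_hasPullback e (pullback.fst q j)
  let m : pullback q j ⟶ pullback f i := pullback.lift (pullback.fst q j ≫ p)
    (pullback.snd q j ≫ v₀) (by
      rw [Category.assoc, sq.w, ← Category.assoc, pullback.condition, Category.assoc, hc,
        Category.assoc])
  have m1 : m ≫ pullback.fst f i = pullback.fst q j ≫ p := pullback.lift_fst _ _ _
  have m2 : m ≫ pullback.snd f i = pullback.snd q j ≫ v₀ := pullback.lift_snd _ _ _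
  have sq0 : IsPullback m (pullback.snd q j) (pullback.snd f i) v₀ := by
    refine IsPullback.of_right ?_ m2 sqX
    rw [m1, ← hc]
    exact sqW.paste_horiz sq
  have hQ0 : Q (pullback.snd e (pullback.fst q j) ≫ pullback.snd q j) (v₀ ≫ i ≫ y) := by
    have := H.baseChange (e ≫ q) j _ _ (v ≫ y) (sqU.paste_vert sqW) inferInstance hQ
    rwa [← Category.assoc, hc, Category.assoc] at this
  obtain ⟨w₀, hw₀, hw₀'⟩ := Scheme.Pullback.exists_preimage_pullback (f := q) (g := j) (e u) x₀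
    (by rw [hx₀]; rfl)
  obtain ⟨u₁, hu₁, hu₁'⟩ := Scheme.Pullback.exists_preimage_pullback (f := e)
    (g := pullback.fst q j) u w₀ hw₀.symm
  obtain ⟨X', a, ha, ⟨x, hx⟩, hQ'⟩ := hG _ _ _ _ _ sq0 _ (pullback.snd e (pullback.fst q j))
    inferInstance hQ0 u₁
  refine ⟨X', a ≫ pullback.fst f i, inferInstance, ⟨x, ?_⟩, ?_⟩
  · rw [Scheme.Hom.comp_apply, hx, ← Scheme.Hom.comp_apply, Category.assoc, m1, ← Category.assoc,
      ← pullback.condition, Category.assoc, Scheme.Hom.comp_apply, hu₁]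
  · have := H.postOpen _ i y hi hQ'
    rwa [Category.assoc, ← pullback.condition, ← Category.assoc] at this

end K630.ES
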