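import Groth.Agent.AlgSp.K630.ESTranslate
import Groth.Agent.AlgSp.K630.ESG

/-!
The affine line belongs to the class `G`.
-/

set_option autoImplicit false
universe u
open CategoryTheory CategoryTheory.Limits AlgebraicGeometry Polynomial TensorProduct

namespace K630.ES

variable {S : Scheme.{u}} {Q : ∀ ⦃X Y : Scheme.{u}⦄, (X ⟶ Y) → (Y ⟶ S) → Prop}

theorem Hyp.core_local (H : Hyp S Q) {A B : Type u} [CommRing A] [CommRing B] (φ : A →+* B)
    (y : Spec (.of A) ⟶ S) (U : Scheme.{u}) (e : U ⟶ L B) [Etale e] [Surjective (e ≫ Lpi B)]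
    (hQ : Q (e ≫ Lmap φ) (Lpi A ≫ y)) (w : L B) :
    ∃ (T : Scheme.{u}) (a : T ⟶ L B), Etale a ∧ w ∈ Set.range a ∧
      Q (a ≫ Lmap φ) (Lpi A ≫ y) := by
  obtain ⟨K, _, b, s, ζ, m, u, hm, hmK, hζ, hw, hu⟩ := exists_translate e w
  algebraize [φ, b, b.comp φ]
  let P := muPair A m hm
  let a' : A →+* P.Ring := algebraMap A P.Ring
  let b' : B →+* (B ⊗[A] P.Ring) := algebraMap B (B ⊗[A] P.Ring)
  let φ' : P.Ring →+* (B ⊗[A] P.Ring) :=
    (Algebra.TensorProduct.includeRight : P.Ring →ₐ[A] (B ⊗[A] P.Ring)).toRingHom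
  have sq : IsPullback (Sm b') (Sm φ') (Sm φ) (Sm a') :=
    isPullback_SpecMap_of_isPushout _ _ _ _ (CommRingCat.isPushout_tensorProduct A B P.Ring)
  have sqL := isPullback_Lmap φ a' b' φ' sq
  let z : P.Ring := P.X
  have sqz : IsPullback (tr (φ' z)) (Lmap φ') (Lmap φ') (tr z) :=
    IsPullback.of_horiz_isIso ⟨tr_Lmap φ' z⟩
  have sqT := sqz.paste_horiz sqL
  have ha' : Etale (Sm a') := by
    rw [HasRingHomProperty.Spec_iff (P := @Etale)]
    exact (RingHom.etale_algebraMap (R := A) (S := P.Ring)).2 inferInstance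
  have hLa' : Etale (Lmap a') :=
    MorphismProperty.of_isPullback (P := @Etale) (isPullback_L a') ha'
  have hLb' : Etale (Lmap b') :=
    MorphismProperty.of_isPullback (P := @Etale) sqL.flip hLa'
  have sqTT := (IsPullback.of_hasPullback e (tr (φ' z) ≫ Lmap b')).paste_vert sqT
  have h1 := H.baseChange (e ≫ Lmap φ) (tr z ≫ Lmap a') _ _ (Lpi A ≫ y) sqTT inferInstance hQ
  have hz : (tr z ≫ Lmap a') ≫ Lpi A ≫ y = Lmap a' ≫ Lpi A ≫ y := by
    rw [← Category.assoc (Lmap a'), Lmap_Lpi, Category.assoc, ← Category.assoc (Lmap a'),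
      Lmap_Lpi, Category.assoc, ← Category.assoc (tr z), tr_Lpi]
  rw [hz] at h1
  have h2 := H.post _ (Lmap a') (Lpi A ≫ y) h1
  rw [Category.assoc, ← sqL.w, ← Category.assoc] at h2
  refine ⟨_, _, inferInstance, ?_, h2⟩
  -- the point
  have hP : P.HasMap ζ := by
    constructor
    · simp [P, muPair, hζ]
    · simp [P, muPair, hmK]
  let β : (B ⊗[A] P.Ring) →ₐ[A] K :=
    Algebra.TensorProduct.productMap (IsScalarTower.toAlgHom A B K) (P.lift ζ hP)
  have hβ1 : ∀ r : B, β (b' r) = b r := fun r => by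
    change Algebra.TensorProduct.productMap _ _ (r ⊗ₜ[A] (1 : P.Ring)) = _
    rw [Algebra.TensorProduct.productMap_apply_tmul, map_one, mul_one]
    rfl
  have hβ2 : β (φ' z) = ζ := by
    change Algebra.TensorProduct.productMap _ _ ((1 : B) ⊗ₜ[A] P.X) = _
    rw [Algebra.TensorProduct.productMap_apply_tmul, map_one, one_mul, P.lift_X]
  let ρ : (B ⊗[A] P.Ring)[X] →+* K := eval₂RingHom β.toRingHom s
  have h3 : (tr (φ' z) ≫ Lmap b') (kpt ρ) = e u := by
    rw [hu, Scheme.Hom.comp_apply, tr, Sm_kpt, Sm_kpt]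
    congr 1
    apply Polynomial.ringHom_ext
    · intro r
      simp [ρ, hβ1]
    · simp [ρ, algEquivAevalXAddC, hβ2]
  obtain ⟨t, ht1, ht2⟩ := Scheme.Pullback.exists_preimage_pullback (f := e)
    (g := tr (φ' z) ≫ Lmap b') u (kpt ρ) h3.symm
  refine ⟨t, ?_⟩
  rw [Scheme.Hom.comp_apply, ht2, Sm_kpt, ← hw]
  congr 1
  apply Polynomial.ringHom_ext
  · intro r
    simp [ρ, hβ1]
  · simp [ρ]

theorem Hyp.core (H : Hyp S Q) {A B : Type u} [CommRing A] [CommRing B] (φ : A →+* B)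
    (y : Spec (.of A) ⟶ S) (U : Scheme.{u}) (e : U ⟶ L B) [Etale e] [Surjective (e ≫ Lpi B)]
    (hQ : Q (e ≫ Lmap φ) (Lpi A ≫ y)) : Q (Sm φ) y := by
  refine H.base (Sm φ) (Lpi A) (Lmap φ) (Lpi B) y (isPullback_L φ) (smooth_Lpi A)
    (surjective_Lpi A) ?_
  choose T a ha hw hT using fun w : L B => H.core_local φ y U e hQ w
  exact H.source T a (Lmap φ) (Lpi A ≫ y) ha (fun w => ⟨w, hw w⟩) hT

theorem Hyp.G_L (H : Hyp S Q) {A : Type u} [CommRing A] (y : Spec (.of A) ⟶ S) :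
    G Q (Lpi A) y := by
  intro X f W p q sq U e he hQ u
  have hLpi := smooth_Lpi A
  have hp : Smooth p := MorphismProperty.of_isPullback (P := @Smooth) sq.flip inferInstance
  -- an affine open neighbourhood inside the image
  have hopen : IsOpen (Set.range (e ≫ p)) := (e ≫ p).isOpenMap.isOpen_range
  obtain ⟨_, ⟨X0, hX0, rfl⟩, hx, hX⟩ := X.isBasis_affineOpens.exists_subset_of_mem_open
    (show (e ≫ p) u ∈ Set.range (e ≫ p) from ⟨u, rfl⟩) hopen
  let B : CommRingCat.{u} := Γ(X, X0)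
  let j : Spec (.of B) ⟶ X := hX0.fromSpec
  have hj : IsOpenImmersion j := inferInstanceAs (IsOpenImmersion hX0.fromSpec)
  have hjr : Set.range j = X0 := hX0.range_fromSpec
  let φ : A →+* B := (Spec.preimage (j ≫ f)).hom
  have hφ : Sm φ = j ≫ f := Spec.map_preimage _
  -- the affine line over `B`
  let m : L B ⟶ W := sq.lift (Lpi B ≫ j) (Lmap φ) (by
    rw [Category.assoc, ← hφ, (isPullback_L φ).w])
  have m1 : m ≫ p = Lpi B ≫ j := sq.lift_fst _ _ _
  have m2 : m ≫ q = Lmap φ := sq.lift_snd _ _ _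
  have sqm : IsPullback m (Lpi B) p j := by
    refine IsPullback.of_right (h₁₂ := q) (v₁₃ := Lpi A) (h₂₂ := f) ?_ m1 sq.flip
    rw [m2, ← hφ]
    exact (isPullback_L φ).flip
  have sqU := IsPullback.of_hasPullback e m
  have hQ' : Q (pullback.snd e m ≫ Lmap φ) (Lpi A ≫ y) := by
    rw [← m2, ← Category.assoc, ← pullback.condition, Category.assoc]
    have : IsOpenImmersion m := MorphismProperty.of_isPullback (P := @IsOpenImmersion) sqm.flip hj
    exact H.precomp _ _ _ inferInstance hQ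
  have hsurj : Surjective (pullback.snd e m ≫ Lpi B) := by
    refine ⟨fun x => ?_⟩
    have h1 : j x ∈ Set.range (e ≫ p) := hX (by rw [← hjr]; exact ⟨x, rfl⟩)
    obtain ⟨v, hv⟩ := h1
    obtain ⟨t, -, ht⟩ := Scheme.exists_preimage_of_isPullback (sqU.paste_vert sqm) v x hv
    exact ⟨t, ht⟩
  have := H.core φ y _ (pullback.snd e m) hQ'
  refine ⟨_, j, inferInstance, ?_, ?_⟩
  · rw [hjr]; exact hx
  · rwa [← hφ]

end K630.ES
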