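import Groth.Agent.AlgSp.K630.ESCore
import Mathlib.RingTheory.RingHom.StandardSmooth
import Mathlib.Algebra.MvPolynomial.Equiv

/-!
Every smooth morphism belongs to the class `G`.
-/

set_option autoImplicit false
universe u
open CategoryTheory CategoryTheory.Limits AlgebraicGeometry

namespace K630.ES

variable {S : Scheme.{u}} {Q : ∀ ⦃X Y : Scheme.{u}⦄, (X ⟶ Y) → (Y ⟶ S) → Prop}

theorem Hyp.G_Sm_comp_of_etale (H : Hyp S Q) {A B D : Type u} [CommRing A] [CommRing B]
    [CommRing D] (φ : A →+* B) (ψ : B →+* D) (hψ : ψ.Etale) (y : Spec (.of A) ⟶ S)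
    (h : G Q (Sm φ) y) : G Q (Sm (ψ.comp φ)) y := by
  have : Etale (Sm ψ) := by
    rw [HasRingHomProperty.Spec_iff (P := @Etale)]
    exact hψ
  rw [← Sm_comp]
  exact G_comp _ _ _ (H.G_etale _ _) h

theorem Hyp.G_mv (H : Hyp S Q) (n : ℕ) : ∀ {A : Type u} [CommRing A] (y : Spec (.of A) ⟶ S),
    G Q (Sm (MvPolynomial.C : A →+* MvPolynomial (Fin n) A)) y := by
  induction n with
  | zero =>
    intro A _ y
    have h1 : (MvPolynomial.C : A →+* MvPolynomial (Fin 0) A) =
        ((MvPolynomial.isEmptyAlgEquiv A (Fin 0)).symm : A →+* MvPolynomial (Fin 0) A).comp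
          (RingHom.id A) := by
      ext a
      simp
    rw [h1]
    refine H.G_Sm_comp_of_etale _ _ ?_ y ?_
    · exact RingHom.Etale.of_bijective (MvPolynomial.isEmptyAlgEquiv A (Fin 0)).symm.bijective
    · have : Etale (Sm (RingHom.id A)) := by
        change Etale (Spec.map (𝟙 _))
        infer_instance
      exact H.G_etale _ _
  | succ n ih =>
    intro A _ y
    have h1 : (MvPolynomial.C : A →+* MvPolynomial (Fin (n + 1)) A) =
        ((MvPolynomial.finSuccEquiv A n).symm :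
          Polynomial (MvPolynomial (Fin n) A) →+* MvPolynomial (Fin (n + 1)) A).comp
          (Polynomial.C.comp MvPolynomial.C) := by
      refine RingHom.ext fun a => ?_
      exact ((MvPolynomial.finSuccEquiv A n).symm.commutes a).symm
    rw [h1]
    refine H.G_Sm_comp_of_etale _ _ ?_ y ?_
    · exact RingHom.Etale.of_bijective (MvPolynomial.finSuccEquiv A n).symm.bijective
    · rw [← Sm_comp]
      exact G_comp _ _ _ (H.G_L _) (ih y)

theorem Hyp.G_smooth (H : Hyp S Q) {V Y : Scheme.{u}} (v : V ⟶ Y) [Smooth v] (y : Y ⟶ S) :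
    G Q v y := by
  refine H.G_of_local v y fun x => ?_
  obtain ⟨Y0, hY0, V0, hV0, hx, hV, hst⟩ := Smooth.exists_isStandardSmooth v x
  obtain ⟨n, φ, hφ, hφe⟩ := hst.exists_etale_mvPolynomial
  refine ⟨Spec Γ(V, V0), Spec Γ(Y, Y0), hV0.fromSpec, hY0.fromSpec, Spec.map (v.appLE Y0 V0 hV),
    inferInstance, inferInstance, ?_, ?_, ?_⟩
  · rw [IsAffineOpen.SpecMap_appLE_fromSpec v hY0 hV0 hV]
  · rw [hV0.range_fromSpec]; exact hx
  · have h1 : Spec.map (v.appLE Y0 V0 hV) = Sm (φ.comp MvPolynomial.C) := by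
      rw [hφ]
      rfl
    rw [h1]
    exact H.G_Sm_comp_of_etale _ _ hφe _ (H.G_mv n _)

end K630.ES
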