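import Mathlib.AlgebraicGeometry.Morphisms.Etale
import Mathlib.AlgebraicGeometry.Morphisms.Separated
import Mathlib.AlgebraicGeometry.Morphisms.UniversallyOpen
import Mathlib.RingTheory.Unramified.LocalStructure

/-!
Scheme level hypotheses of `isEtaleSmoothLocalST_of_local`: a property `Q f y` of morphisms
`f : X ⟶ Y` of schemes over `S` (`y : Y ⟶ S`) which is etale local on the source, smooth local on the
base and stable under postcomposition with open immersions.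
-/

set_option autoImplicit false
universe u
open CategoryTheory CategoryTheory.Limits AlgebraicGeometry

namespace K630.ES

/-- The scheme level hypotheses. -/
structure Hyp (S : Scheme.{u}) (Q : ∀ ⦃X Y : Scheme.{u}⦄, (X ⟶ Y) → (Y ⟶ S) → Prop) : Prop where
  source : ∀ ⦃ι : Type u⦄ ⦃X Y : Scheme.{u}⦄ (Xi : ι → Scheme.{u}) (e : ∀ i, Xi i ⟶ X) (f : X ⟶ Y)
    (y : Y ⟶ S), (∀ i, Etale (e i)) → (∀ x : X, ∃ i, x ∈ Set.range (e i)) →
    (∀ i, Q (e i ≫ f) y) → Q f y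
  precomp : ∀ ⦃X Y Z : Scheme.{u}⦄ (e : X ⟶ Y) (f : Y ⟶ Z) (z : Z ⟶ S), Etale e → Q f z →
    Q (e ≫ f) z
  baseChange : ∀ ⦃X Y X' Y' : Scheme.{u}⦄ (f : X ⟶ Y) (g : Y' ⟶ Y) (f' : X' ⟶ Y') (g' : X' ⟶ X)
    (y : Y ⟶ S), IsPullback g' f' f g → Smooth g → Q f y → Q f' (g ≫ y)
  base : ∀ ⦃X Y X' Y' : Scheme.{u}⦄ (f : X ⟶ Y) (g : Y' ⟶ Y) (f' : X' ⟶ Y') (g' : X' ⟶ X)
    (y : Y ⟶ S), IsPullback g' f' f g → Smooth g → Surjective g → Q f' (g ≫ y) → Q f y
  postOpen : ∀ ⦃X Y Z : Scheme.{u}⦄ (f : X ⟶ Y) (j : Y ⟶ Z) (z : Z ⟶ S), IsOpenImmersion j →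
    Q f (j ≫ z) → Q (f ≫ j) z

variable {S : Scheme.{u}} {Q : ∀ ⦃X Y : Scheme.{u}⦄, (X ⟶ Y) → (Y ⟶ S) → Prop}

/-- `f` is the base change of `f ≫ j` along the mono `j`. -/
theorem isPullback_comp_mono {X Y Z : Scheme.{u}} (f : X ⟶ Y) (j : Y ⟶ Z) [Mono j] :
    IsPullback (𝟙 X) f (f ≫ j) j := by
  have h : IsPullback (𝟙 Y) (𝟙 Y) j j := IsKernelPair.id_of_mono j
  have h2 : IsPullback f (𝟙 X) (𝟙 Y) f := IsPullback.of_vert_isIso ⟨by simp⟩
  simpa using (h2.paste_horiz h.flip).flip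

/-- If the base change of `b` along a smooth `τ` has `Q`, then so has `r ≫ b` for every etale `r`
such that `r ≫ b` has image in the image of `τ`. -/
theorem Hyp.of_base_image (H : Hyp S Q) {X Y T R X' : Scheme.{u}} (b : X ⟶ Y) (y : Y ⟶ S)
    (τ : T ⟶ Y) [Smooth τ] (p : X' ⟶ X) (q : X' ⟶ T) (sq : IsPullback p q b τ)
    (hq : Q q (τ ≫ y)) (r : R ⟶ X) [Etale r] (hr : Set.range (r ≫ b) ⊆ Set.range τ) :
    Q (r ≫ b) y := by
  let O : Y.Opens := ⟨Set.range τ, τ.isOpenMap.isOpen_range⟩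
  have hO : Set.range O.ι = Set.range τ := by
    rw [Scheme.Opens.range_ι]; rfl
  let τO : T ⟶ O := IsOpenImmersion.lift O.ι τ hO.ge
  have hτO : τO ≫ O.ι = τ := IsOpenImmersion.lift_fac _ _ _
  have sq2 := IsPullback.of_hasPullback b O.ι
  have h1 : Smooth τO := by
    have := isPullback_comp_mono τO O.ι
    rw [hτO] at this
    exact MorphismProperty.of_isPullback (P := @Smooth) this inferInstance
  have h2 : Surjective τO := by
    refine ⟨fun x => ?_⟩
    obtain ⟨t, ht⟩ := x.2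
    exact ⟨t, Subtype.ext (by rw [← ht, ← hτO]; rfl)⟩
  have h3 : IsPullback (sq2.lift p (q ≫ τO) (by rw [Category.assoc, hτO, sq.w])) q
      (pullback.snd b O.ι) τO := by
    refine IsPullback.of_right ?_ (by rw [IsPullback.lift_snd]) sq2
    rw [IsPullback.lift_fst, hτO]
    exact sq
  have h4 : Q (pullback.snd b O.ι) (O.ι ≫ y) := by
    refine H.base _ τO q _ _ h3 h1 h2 ?_
    rw [← Category.assoc, hτO]
    exact hq
  have h5 := H.postOpen _ _ _ inferInstance h4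
  rw [← pullback.condition] at h5
  have hr' : Set.range (r ≫ b) ⊆ Set.range O.ι := hr.trans hO.ge
  let s : R ⟶ pullback b O.ι := pullback.lift r (IsOpenImmersion.lift O.ι (r ≫ b) hr')
    (IsOpenImmersion.lift_fac _ _ _).symm
  have hs : s ≫ pullback.fst b O.ι = r := pullback.lift_fst _ _ _
  have h6 : Etale s := by
    have : Etale (s ≫ pullback.fst b O.ι) := by rw [hs]; infer_instance
    exact Etale.of_comp s (pullback.fst b O.ι)
  have h7 := H.precomp s _ _ h6 h5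
  rwa [← Category.assoc, hs] at h7

end K630.ES
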