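import Groth.Agent.AlgSp.K630.STSmooth

/-!
Etale-smooth local on source-and-target: S10568, S10569 in `Sp S` form.
-/

set_option autoImplicit false
universe u
open CategoryTheory CategoryTheory.Limits AlgebraicGeometry
open AlgSp

namespace K630

variable {S : Scheme.{u}}

section

variable {P : MorphismProperty (Sp S)} (hP : IsEtaleSmoothLocalST P)
include hP

theorem EST_source : IsLocalOnSource (IsEtCover (S := S)) P := by
  intro ι X Xi g hX hXi hg Y f hY
  constructor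
  · intro hf i
    exact hP.precomp (hXi i) hX hY (g i) f (hg.1 i) hf
  · intro H
    refine (hP.locality hX hY f).2 fun x => ?_
    obtain ⟨i, v, hv⟩ := hg.2 x
    refine ⟨Y, X, Xi i, 𝟙 Y, 𝟙 X, f, g i, v, hY, hX, hXi i, smooth_id hY, ?_, hg.1 i, ?_, H i⟩
    · exact (IsPullback.of_horiz_isIso ⟨by rw [Category.id_comp, Category.comp_id]⟩ :
        IsPullback (𝟙 X) f f (𝟙 Y))
    · rw [Category.comp_id]; exact hv

theorem EST_base : IsLocalOnBase (IsSmCover (S := S)) P := by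
  intro ι Y Yi g hY hYi hg X f hX Xi p q hXi sq
  constructor
  · intro hf i
    exact hP.baseChange hX hY (hXi i) (hYi i) f (g i) (p i) (q i) (sq i) (hg.1 i) hf
  · intro H
    refine (hP.locality hX hY f).2 fun x => ?_
    obtain ⟨i, y, hy⟩ := hg.2 (Points.map f x)
    obtain ⟨v, hv1, hv2⟩ := points_exists_lift (sq i) x y hy.symm
    refine ⟨Yi i, Xi i, Xi i, g i, q i, p i, 𝟙 _, v, hYi i, hXi i, hXi i, hg.1 i, sq i,
      isEtaleMor_id _, ?_, ?_⟩
    · rw [Category.id_comp]; exact hv1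
    · rw [Category.id_comp]; exact H i

end

/-- For `g : Y ⟶ Z` etale and `f : X ⟶ Y`, the graph `X ⟶ X ×_Z Y` is etale. -/
theorem isEtaleMor_graph {X Y Z W : Sp S} (hX : IsAlgSpace X) (hY : IsAlgSpace Y)
    (hZ : IsAlgSpace Z) (f : X ⟶ Y) (g : Y ⟶ Z) (hg : IsEtaleMor g)
    {p : W ⟶ X} {q : W ⟶ Y} (sq : IsPullback p q (f ≫ g) g) :
    IsEtaleMor (sq.lift (𝟙 X) f (by rw [Category.id_comp])) := by
  have hW : IsAlgSpace W := isAlgSpace_of_isPullback hX hY hZ sq
  refine isEtaleMor_of_comp hX hW hX (h := p) ?_ (isEtaleMor_baseChange hY hZ hX sq hg)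
  rw [IsPullback.lift_fst]
  exact isEtaleMor_id X

section

variable {P : MorphismProperty (Sp S)} (hP : IsEtaleSmoothLocalST P)
include hP

theorem EST_postcomp {X Y Z : Sp S} (hX : IsAlgSpace X) (hY : IsAlgSpace Y) (hZ : IsAlgSpace Z)
    (f : X ⟶ Y) (g : Y ⟶ Z) (hf : P f) (hg : IsEtaleMor g) : P (f ≫ g) := by
  refine (hP.locality hX hZ (f ≫ g)).2 fun x => ?_
  have sq := IsPullback.of_hasPullback (f ≫ g) g
  have hW := isAlgSpace_of_isPullback hX hY hZ sq
  refine ⟨Y, _, X, g, _, _, sq.lift (𝟙 X) f (by rw [Category.id_comp]), x, hY, hW, hX,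
    smooth_of_isEtaleMor hY hZ hg, sq, isEtaleMor_graph hX hY hZ f g hg sq, ?_, ?_⟩
  · rw [IsPullback.lift_fst]; exact Points.map_id x
  · rw [IsPullback.lift_snd]; exact hf

theorem EST_of_comp {X Y Z : Sp S} (hX : IsAlgSpace X) (hY : IsAlgSpace Y) (hZ : IsAlgSpace Z)
    (f : X ⟶ Y) (g : Y ⟶ Z) (hg : IsEtaleMor g) (hf : P (f ≫ g)) : P f := by
  have sq := IsPullback.of_hasPullback (f ≫ g) g
  have hW := isAlgSpace_of_isPullback hX hY hZ sq
  have h1 := hP.baseChange hX hZ hW hY (f ≫ g) g _ _ sq (smooth_of_isEtaleMor hY hZ hg) hf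
  have h2 := hP.precomp hX hW hY _ _ (isEtaleMor_graph hX hY hZ f g hg sq) h1
  rwa [IsPullback.lift_snd] at h2

end

end K630
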