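import Groth.Agent.AlgSp.K630.ESGSmooth
import Groth.Agent.AlgSp.K630.STEtSmooth
import Groth.Agent.AlgSp.K596.Univ

/-!
From a property of morphisms of algebraic spaces to the scheme level hypotheses; postcomposition
with etale morphisms of algebraic spaces.
-/

set_option autoImplicit false
universe u
open CategoryTheory CategoryTheory.Limits AlgebraicGeometry
open AlgSp

namespace K630.ES

variable {S : Scheme.{u}} (P : MorphismProperty (Sp S))

/-- The property of morphisms of schemes over `S` induced by `P`. -/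
def ofP ⦃X Y : Scheme.{u}⦄ (f : X ⟶ Y) (y : Y ⟶ S) : Prop :=
  ∀ (x : X ⟶ S) (hx : f ≫ y = x), P ((yon S).map (Over.homMk f hx : Over.mk x ⟶ Over.mk y))

theorem ofP_left_iff {U V : Over S} (h : U ⟶ V) : ofP P h.left V.hom ↔ P ((yon S).map h) := by
  constructor
  · intro H
    exact H U.hom (Over.w h)
  · intro H x hx
    have : U.hom = x := by rw [← Over.w h, hx]
    subst this
    exact H

theorem isEtaleMor_homMk {X Y : Scheme.{u}} (f : X ⟶ Y) {x : X ⟶ S} {y : Y ⟶ S} (hx : f ≫ y = x)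
    (hf : Etale f) : IsEtaleMor ((yon S).map (Over.homMk f hx : Over.mk x ⟶ Over.mk y)) :=
  (isEtaleMor_yon_map_iff _).2 hf

theorem smooth_yon_map {U V : Over S} (g : U ⟶ V) (hg : Smooth g.left) :
    LocP @Smooth ((yon S).map g) :=
  (locP_iff_repWith good_smooth (IsAlgSpace.yon_obj V) _ (representable_yon_map g)).2
    ((repWith_yon_map_iff _ _).2 hg)

theorem smooth_of_yon_map {U V : Over S} (g : U ⟶ V) (hg : LocP @Smooth ((yon S).map g)) :
    Smooth g.left :=
  (repWith_yon_map_iff _ _).1 ((locP_iff_repWith good_smooth (IsAlgSpace.yon_obj V) _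
    (representable_yon_map g)).1 hg)

theorem surjective_points {U V : Over S} (g : U ⟶ V) (hg : Function.Surjective g.left) :
    Function.Surjective (Points.map ((yon S).map g)) := by
  intro z
  obtain ⟨z, rfl⟩ := (Points.schemeHomeo _).surjective z
  obtain ⟨t, rfl⟩ := hg z
  exact ⟨Points.schemeHomeo _ t, Points.map_yon_map_apply g t⟩

theorem isPullback_homMk {X Y X' Y' : Scheme.{u}} {f : X ⟶ Y} {g : Y' ⟶ Y} {f' : X' ⟶ Y'}
    {g' : X' ⟶ X} (y : Y ⟶ S) (sq : IsPullback g' f' f g) :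
    IsPullback ((yon S).map (Over.homMk g' (by
        change g' ≫ f ≫ y = f' ≫ g ≫ y
        rw [← Category.assoc, sq.w, Category.assoc]) : Over.mk (f' ≫ g ≫ y) ⟶ Over.mk (f ≫ y)))
      ((yon S).map (Over.homMk f' rfl : Over.mk (f' ≫ g ≫ y) ⟶ Over.mk (g ≫ y)))
      ((yon S).map (Over.homMk f rfl : Over.mk (f ≫ y) ⟶ Over.mk y))
      ((yon S).map (Over.homMk g rfl : Over.mk (g ≫ y) ⟶ Over.mk y)) := by
  refine IsPullback.map (yon S) (K596.Univ.isPullback_over ?_ ?_)
  · exact Over.OverMorphism.ext sq.w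
  · exact sq

section

variable {P} (h1 : IsLocalOnSource (IsEtCover (S := S)) P)
include h1

theorem source1 {X' X Y : Sp S} (hX' : IsAlgSpace X') (hX : IsAlgSpace X) (hY : IsAlgSpace Y)
    (a : X' ⟶ X) (ha : IsEtaleMor a) (hs : Function.Surjective (Points.map a)) (f : X ⟶ Y)
    (h : P (a ≫ f)) : P f :=
  (h1 (fun _ : PUnit.{u + 1} => X') (fun _ => a) hX (fun _ => hX')
    ⟨fun _ => ha, fun x => ⟨PUnit.unit, hs x⟩⟩ f hY).2 fun _ => h

theorem precompP {X Y Z : Sp S} (hX : IsAlgSpace X) (hY : IsAlgSpace Y) (hZ : IsAlgSpace Z)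
    (e : X ⟶ Y) (f : Y ⟶ Z) (he : IsEtaleMor e) (hf : P f) : P (e ≫ f) :=
  precomp_of_isLocalOnSource h1 (fun _ _ => isEtaleMor_id _) hX hY hZ he hf

end

section

variable {P} (h2 : IsLocalOnBase (IsSmCover (S := S)) P)
include h2

theorem base1 {X Y X' Y' : Sp S} (hX : IsAlgSpace X) (hY : IsAlgSpace Y) (hX' : IsAlgSpace X')
    (hY' : IsAlgSpace Y') {f : X ⟶ Y} {g : Y' ⟶ Y} {f' : X' ⟶ Y'} {g' : X' ⟶ X}
    (sq : IsPullback g' f' f g) (hg : LocP @Smooth g) (hs : Function.Surjective (Points.map g))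
    (h : P f') : P f :=
  (h2 (fun _ : PUnit.{u + 1} => Y') (fun _ => g) hY (fun _ => hY')
    ⟨fun _ => hg, fun x => ⟨PUnit.unit, hs x⟩⟩ f hX (fun _ => X') (fun _ => f') (fun _ => g')
    (fun _ => hX') (fun _ => sq)).2 fun _ => h

theorem bcP {X Y X' Y' : Sp S} (hX : IsAlgSpace X) (hY : IsAlgSpace Y) (hX' : IsAlgSpace X')
    (hY' : IsAlgSpace Y') {f : X ⟶ Y} {g : Y' ⟶ Y} {f' : X' ⟶ Y'} {g' : X' ⟶ X}
    (sq : IsPullback g' f' f g) (hg : LocP @Smooth g) (h : P f) : P f' :=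
  baseChange_of_isLocalOnBase h2 (fun _ hX => smooth_id hX) hX hY hX' hY' sq hg h

end

/-- The scheme level hypotheses. -/
theorem hyp {P : MorphismProperty (Sp S)} (h1 : IsLocalOnSource (IsEtCover (S := S)) P)
    (h2 : IsLocalOnBase (IsSmCover (S := S)) P)
    (h3 : ∀ ⦃X Y Z : Sp S⦄, IsAlgSpace X → IsAlgSpace Y → IsAlgSpace Z →
      ∀ (f : X ⟶ Y) (j : Y ⟶ Z), P f → RepWith @IsOpenImmersion j → P (f ≫ j)) :
    Hyp S (ofP P) where
  source := by
    intro ι X Y Xi e f y he hc hQ x hx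
    subst hx
    refine (h1 (fun i => (yon S).obj (Over.mk (e i ≫ f ≫ y)))
      (fun i => (yon S).map (Over.homMk (e i) rfl : Over.mk (e i ≫ f ≫ y) ⟶ Over.mk (f ≫ y)))
      (IsAlgSpace.yon_obj _) (fun i => IsAlgSpace.yon_obj _) ⟨?_, ?_⟩
      ((yon S).map (Over.homMk f rfl : Over.mk (f ≫ y) ⟶ Over.mk y)) (IsAlgSpace.yon_obj _)).2 ?_
    · exact fun i => isEtaleMor_homMk _ _ (he i)
    · intro z
      obtain ⟨z, rfl⟩ := (Points.schemeHomeo _).surjective z
      obtain ⟨i, t, ht⟩ := hc z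
      refine ⟨i, Points.schemeHomeo _ t, ?_⟩
      rw [Points.map_yon_map_apply]
      exact congrArg _ ht
    · intro i
      rw [← Functor.map_comp]
      exact hQ i _ (Category.assoc _ _ _)
  precomp := by
    intro X Y Z e f z he hf x hx
    subst hx
    have := precompP h1 (IsAlgSpace.yon_obj _) (IsAlgSpace.yon_obj _) (IsAlgSpace.yon_obj _)
      _ _ (isEtaleMor_homMk (S := S) e (x := (e ≫ f) ≫ z) (y := f ≫ z) (by rw [Category.assoc]) he)
      (hf _ rfl)
    rw [← Functor.map_comp] at this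
    exact this
  baseChange := by
    intro X Y X' Y' f g f' g' y sq hg hf x hx
    subst hx
    exact bcP h2 (IsAlgSpace.yon_obj _) (IsAlgSpace.yon_obj _) (IsAlgSpace.yon_obj _)
      (IsAlgSpace.yon_obj _) (isPullback_homMk y sq) (smooth_yon_map _ hg) (hf _ rfl)
  base := by
    intro X Y X' Y' f g f' g' y sq hg hs hf x hx
    subst hx
    exact base1 h2 (IsAlgSpace.yon_obj _) (IsAlgSpace.yon_obj _) (IsAlgSpace.yon_obj _)
      (IsAlgSpace.yon_obj _) (isPullback_homMk y sq) (smooth_yon_map _ hg)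
      (surjective_points _ hs.surj) (hf _ rfl)
  postOpen := by
    intro X Y Z f j z hj hf x hx
    subst hx
    have := h3 (IsAlgSpace.yon_obj _) (IsAlgSpace.yon_obj _) (IsAlgSpace.yon_obj _) _
      ((yon S).map (Over.homMk j rfl : Over.mk (j ≫ z) ⟶ Over.mk z)) (hf _ (Category.assoc _ _ _).symm)
      ((repWith_yon_map_iff _ _).2 hj)
    rw [← Functor.map_comp] at this
    exact this

end K630.ES
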