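import Mathlib.AlgebraicGeometry.Morphisms.Etale
import Mathlib.AlgebraicGeometry.PullbackCarrier
import Mathlib.RingTheory.PolynomialAlgebra
import Mathlib.RingTheory.Etale.StandardEtale
import Mathlib.FieldTheory.IsAlgClosed.AlgebraicClosure
import Mathlib.RingTheory.Smooth.Basic
import Mathlib.AlgebraicGeometry.Morphisms.Smooth

/-!
The affine line over an affine scheme: functoriality, translations, and a lemma on translating a
point of a fibre by a root of unity into a given nonempty open subset.
-/

set_option autoImplicit false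
universe u
open CategoryTheory CategoryTheory.Limits AlgebraicGeometry Polynomial

namespace K630.ES

/-- The affine line. -/
noncomputable abbrev L (A : Type u) [CommRing A] : Scheme.{u} := Spec (.of A[X])

/-- The structure map. -/
noncomputable abbrev Lpi (A : Type u) [CommRing A] : L A ⟶ Spec (.of A) :=
  Spec.map (CommRingCat.ofHom (C : A →+* A[X]))

variable {A B : Type u} [CommRing A] [CommRing B]

/-- Functoriality. -/
noncomputable abbrev Lmap (φ : A →+* B) : L B ⟶ L A := Spec.map (CommRingCat.ofHom (mapRingHom φ))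

/-- Spec of a ring map. -/
noncomputable abbrev Sm (φ : A →+* B) : Spec (.of B) ⟶ Spec (.of A) := Spec.map (CommRingCat.ofHom φ)

theorem Sm_comp {D : Type u} [CommRing D] (φ : A →+* B) (ψ : B →+* D) :
    Sm ψ ≫ Sm φ = Sm (ψ.comp φ) := by
  rw [← Spec.map_comp]; rfl

theorem isPullback_L (φ : A →+* B) : IsPullback (Lpi B) (Lmap φ) (Sm φ) (Lpi A) := by
  algebraize [φ]
  let : Algebra A[X] B[X] := _root_.Polynomial.algebra A B
  have : IsScalarTower A A[X] B[X] := inferInstance
  have h : IsPushout (CommRingCat.ofHom φ) (CommRingCat.ofHom (C : A →+* A[X]))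
      (CommRingCat.ofHom (C : B →+* B[X])) (CommRingCat.ofHom (mapRingHom φ)) := by
    exact (CommRingCat.isPushout_iff_isPushout (R := A) (R' := B) (S := A[X]) (S' := B[X])).2
      inferInstance
  exact isPullback_SpecMap_of_isPushout _ _ _ _ h

theorem smooth_Lpi (A : Type u) [CommRing A] : Smooth (Lpi A) := by
  rw [HasRingHomProperty.Spec_iff (P := @Smooth)]
  have : Algebra.Smooth A A[X] := ⟨inferInstance, inferInstance⟩
  exact (RingHom.smooth_algebraMap (R := A) (S := A[X])).2 this

theorem surjective_Lpi (A : Type u) [CommRing A] : Surjective (Lpi A) := by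
  refine ⟨fun x => ⟨Sm (evalRingHom (0 : A)) x, ?_⟩⟩
  rw [← Scheme.Hom.comp_apply, Sm_comp]
  have : (evalRingHom (0 : A)).comp C = RingHom.id A := by
    ext a; simp
  rw [this]
  change Spec.map (𝟙 _) x = x
  rw [Spec.map_id]
  rfl

/-- Translation by `a`. -/
noncomputable def tr (a : A) : L A ⟶ L A := Sm (algEquivAevalXAddC a : A[X] →+* A[X])

instance (a : A) : IsIso (tr a) := by
  have : IsIso (CommRingCat.ofHom (algEquivAevalXAddC a : A[X] →+* A[X])) :=
    (algEquivAevalXAddC a).toRingEquiv.toCommRingCatIso.isIso_hom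
  exact inferInstanceAs (IsIso (Spec.map _))

theorem tr_Lmap (φ : A →+* B) (a : A) : tr (φ a) ≫ Lmap φ = Lmap φ ≫ tr a := by
  have h : (algEquivAevalXAddC (φ a) : B[X] →+* B[X]).comp (mapRingHom φ) =
      (mapRingHom φ).comp (algEquivAevalXAddC a : A[X] →+* A[X]) := by
    apply Polynomial.ringHom_ext
    · intro r; simp [algEquivAevalXAddC]
    · simp [algEquivAevalXAddC]
  rw [tr, tr, Sm_comp, Sm_comp, h]

theorem tr_Lpi (a : A) : tr a ≫ Lpi A = Lpi A := by
  have h : (algEquivAevalXAddC a : A[X] →+* A[X]).comp C = C := by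
    ext; simp
  rw [tr, Sm_comp, h]

theorem Lmap_Lpi (φ : A →+* B) : Lmap φ ≫ Lpi A = Lpi B ≫ Sm φ :=
  (isPullback_L φ).w.symm

/-- A pushout square gives a cartesian square of affine lines. -/
theorem isPullback_Lmap {A' B' : Type u} [CommRing A'] [CommRing B'] (φ : A →+* B) (a : A →+* A')
    (b : B →+* B') (φ' : A' →+* B')
    (sq : IsPullback (Sm b) (Sm φ') (Sm φ) (Sm a)) :
    IsPullback (Lmap b) (Lmap φ') (Lmap φ) (Lmap a) := by
  refine IsPullback.of_right (h₁₂ := Lpi B) (v₁₃ := Sm φ) (h₂₂ := Lpi A) ?_ ?_ (isPullback_L φ)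
  · rw [Lmap_Lpi, Lmap_Lpi]
    exact (isPullback_L φ').paste_horiz sq
  · have h : φ'.comp a = b.comp φ := by
      have := sq.w
      rw [Sm_comp, Sm_comp] at this
      have := Spec.map_injective this
      exact (congrArg CommRingCat.Hom.hom this).symm
    rw [Sm_comp, Sm_comp, mapRingHom_comp, mapRingHom_comp, h]

end K630.ES
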