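import Groth.Agent.AlgSp.K630.ESSpace

/-!
Etale-smooth locality on source and target for algebraic spaces: main theorem.
-/

set_option autoImplicit false
universe u
open CategoryTheory CategoryTheory.Limits AlgebraicGeometry
open AlgSp

namespace K630.ES

variable {S : Scheme.{u}}

variable {P : MorphismProperty (Sp S)} (h1 : IsLocalOnSource (IsEtCover (S := S)) P)
  (h2 : IsLocalOnBase (IsSmCover (S := S)) P)
  (h3 : ∀ ⦃X Y Z : Sp S⦄, IsAlgSpace X → IsAlgSpace Y → IsAlgSpace Z →
      ∀ (f : X ⟶ Y) (j : Y ⟶ Z), P f → RepWith @IsOpenImmersion j → P (f ≫ j))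

include h1 h2 h3

/-- the scheme case, in terms of `Sp S`. -/
theorem local_yon {X Y V U : Over S} (f : X ⟶ Y) (v : V ⟶ Y) (hv : Smooth v.left)
    {W : Sp S} (p : W ⟶ (yon S).obj X) (q : W ⟶ (yon S).obj V)
    (sq : IsPullback p q ((yon S).map f) ((yon S).map v)) (e : (yon S).obj U ⟶ W)
    (he : IsEtaleMor e) (hQ : P (e ≫ q)) (u : Points ((yon S).obj U)) :
    ∃ (X' : Over S) (a : X' ⟶ X), Etale a.left ∧
      Points.map (e ≫ p) u ∈ Set.range (Points.map ((yon S).map a)) ∧ P ((yon S).map (a ≫ f)) := by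
  have sqO := IsPullback.of_hasPullback f v
  have sqY := sqO.map (yon S)
  let i : W ≅ (yon S).obj (pullback f v) := sq.isoIsPullback _ _ sqY
  have i1 : i.hom ≫ (yon S).map (pullback.fst f v) = p := sq.isoIsPullback_hom_fst _ _ sqY
  have i2 : i.hom ≫ (yon S).map (pullback.snd f v) = q := sq.isoIsPullback_hom_snd _ _ sqY
  have hi : IsEtaleMor i.hom := by
    have := repWith_isMultiplicative (S := S) @Etale
    exact isEtaleMor_of_repWith (MorphismProperty.of_isIso (RepWith @Etale) i.hom)
  obtain ⟨e', he'⟩ := (yon S).map_surjective (e ≫ i.hom)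
  have hee : Etale e'.left := by
    rw [← isEtaleMor_yon_map_iff, he']
    exact isEtaleMor_comp he hi
  have hQ' : ofP P (e'.left ≫ (pullback.snd f v).left) (v.left ≫ Y.hom) := by
    have h4 : P ((yon S).map (e' ≫ pullback.snd f v)) := by
      rw [Functor.map_comp, he', Category.assoc, i2]
      exact hQ
    have h5 := (ofP_left_iff P (e' ≫ pullback.snd f v)).2 h4
    rw [← Over.w v] at h5
    exact h5
  obtain ⟨u, rfl⟩ := (Points.schemeHomeo _).surjective u
  have sqL : IsPullback (pullback.fst f v).left (pullback.snd f v).left f.left v.left :=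
    sqO.map (Over.forget S)
  have hG : G (ofP P) v.left Y.hom := (hyp h1 h2 h3).G_smooth v.left Y.hom
  obtain ⟨X', a, ha, ⟨x, hx⟩, hP⟩ := hG X.left f.left _ _ _ sqL U.left e'.left hee hQ' u
  let a' : Over.mk (a ≫ X.hom) ⟶ X := Over.homMk a rfl
  have h6 : P ((yon S).map (a' ≫ f)) := (ofP_left_iff P (a' ≫ f)).1 hP
  refine ⟨Over.mk (a ≫ X.hom), a', ha, ⟨Points.schemeHomeo _ x, ?_⟩, h6⟩
  have h7 : (e ≫ p) = (yon S).map (e' ≫ pullback.fst f v) := by
    rw [Functor.map_comp, he', Category.assoc, i1]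
  rw [h7, Points.map_yon_map_apply, Points.map_yon_map_apply]
  exact congrArg _ hx

theorem local_space {X Y V W U : Sp S} (hX : IsAlgSpace X) (hY : IsAlgSpace Y) (hV : IsAlgSpace V)
    (hW : IsAlgSpace W) (hU : IsAlgSpace U) (f : X ⟶ Y) (b : V ⟶ Y) (p : W ⟶ X) (q : W ⟶ V)
    (e : U ⟶ W) (hb : LocP @Smooth b) (sq : IsPullback p q f b) (he : IsEtaleMor e)
    (hQ : P (e ≫ q)) (v : Points U) :
    ∃ (X' : Sp S) (a : X' ⟶ X), IsAlgSpace X' ∧ IsEtaleMor a ∧
      Points.map (e ≫ p) v ∈ Set.range (Points.map a) ∧ P (a ≫ f) := by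
  -- chart of `Y`
  obtain ⟨Y0, c, -, hc, hcs⟩ := exists_chart hY
  have hY0 : IsAlgSpace ((yon S).obj Y0) := IsAlgSpace.yon_obj _
  have sqX1 := IsPullback.of_hasPullback f c
  have hX1 := isAlgSpace_of_isPullback hX hY0 hY sqX1
  have hX1e : IsEtaleMor (pullback.fst f c) := isEtaleMor_baseChange hY0 hY hX sqX1 hc
  -- chart of `X1`
  obtain ⟨X2, x2, -, hx2, hx2s⟩ := exists_chart hX1
  have hX2 : IsAlgSpace ((yon S).obj X2) := IsAlgSpace.yon_obj _
  obtain ⟨f2, hf2⟩ := (yon S).map_surjective (x2 ≫ pullback.snd f c)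
  -- chart of `V ×_Y Y0`
  have sqV1 := IsPullback.of_hasPullback b c
  have hV1 := isAlgSpace_of_isPullback hV hY0 hY sqV1
  have hV1e : IsEtaleMor (pullback.fst b c) := isEtaleMor_baseChange hY0 hY hV sqV1 hc
  have hV1s : Function.Surjective (Points.map (pullback.fst b c)) := surjective_of_isPullback sqV1 hcs
  obtain ⟨V2, v2, -, hv2, hv2s⟩ := exists_chart hV1
  have hV2 : IsAlgSpace ((yon S).obj V2) := IsAlgSpace.yon_obj _
  obtain ⟨g2, hg2⟩ := (yon S).map_surjective (v2 ≫ pullback.snd b c)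
  have hg2s : Smooth g2.left := by
    refine smooth_of_yon_map g2 ?_
    rw [hg2]
    exact locP_comp good_smooth hV2 hV1 hY0 (smooth_of_isEtaleMor hV2 hV1 hv2)
      (locP_baseChange good_smooth hV hY hY0 sqV1 hb)
  let t : (yon S).obj V2 ⟶ V := v2 ≫ pullback.fst b c
  have ht : IsEtaleMor t := isEtaleMor_comp hv2 hV1e
  have hts : Function.Surjective (Points.map t) := by
    have : Points.map t = Points.map (pullback.fst b c) ∘ Points.map v2 := by
      funext z; exact Points.map_comp _ _ _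
    rw [this]
    exact hV1s.comp hv2s
  -- `W1 = W ×_V V2`
  have sqW1 := IsPullback.of_hasPullback q t
  have hW1 := isAlgSpace_of_isPullback hW hV2 hV sqW1
  have sqW1' := sqW1.paste_horiz sq
  have htb : t ≫ b = (yon S).map g2 ≫ c := by
    rw [hg2, Category.assoc, Category.assoc, pullback.condition]
  rw [htb] at sqW1'
  let m : pullback q t ⟶ pullback f c := pullback.lift (pullback.fst q t ≫ p)
    (pullback.snd q t ≫ (yon S).map g2) (by rw [sqW1'.w, Category.assoc])
  have m1 : m ≫ pullback.fst f c = pullback.fst q t ≫ p := pullback.lift_fst _ _ _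
  have m2 : m ≫ pullback.snd f c = pullback.snd q t ≫ (yon S).map g2 := pullback.lift_snd _ _ _
  have sqm : IsPullback m (pullback.snd q t) (pullback.snd f c) ((yon S).map g2) := by
    refine IsPullback.of_right ?_ m2 sqX1
    rw [m1]
    exact sqW1'
  -- `W2 = W1 ×_{X1} X2`
  have sqW2 := IsPullback.of_hasPullback m x2
  have hW2 := isAlgSpace_of_isPullback hW1 hX2 hX1 sqW2
  have hW2e : IsEtaleMor (pullback.fst m x2) := isEtaleMor_baseChange hX2 hX1 hW1 sqW2 hx2
  have hW2s : Function.Surjective (Points.map (pullback.fst m x2)) :=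
    surjective_of_isPullback sqW2 hx2s
  have sqW2' : IsPullback (pullback.snd m x2) (pullback.fst m x2 ≫ pullback.snd q t)
      ((yon S).map f2) ((yon S).map g2) := by
    rw [hf2]
    exact sqW2.flip.paste_vert sqm
  -- `U1 = U ×_W W1`
  have sqU1 := IsPullback.of_hasPullback e (pullback.fst q t)
  have hU1 := isAlgSpace_of_isPullback hU hW1 hW sqU1
  have hU1e : IsEtaleMor (pullback.snd e (pullback.fst q t)) :=
    isEtaleMor_baseChange hU hW hW1 sqU1.flip he
  have hU1s : Function.Surjective (Points.map (pullback.fst e (pullback.fst q t))) :=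
    surjective_of_isPullback sqU1 (surjective_of_isPullback sqW1 hts)
  have hU1P : P (pullback.snd e (pullback.fst q t) ≫ pullback.snd q t) :=
    bcP h2 hU hV hU1 hV2 (sqU1.paste_vert sqW1) (smooth_of_isEtaleMor hV2 hV ht) hQ
  -- `U2 = U1 ×_{W1} W2`
  have sqU2 := IsPullback.of_hasPullback (pullback.snd e (pullback.fst q t)) (pullback.fst m x2)
  have hU2 := isAlgSpace_of_isPullback hU1 hW2 hW1 sqU2
  have hU2e : IsEtaleMor (pullback.fst (pullback.snd e (pullback.fst q t)) (pullback.fst m x2)) :=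
    isEtaleMor_baseChange hW2 hW1 hU1 sqU2 hW2e
  have hU2e' : IsEtaleMor (pullback.snd (pullback.snd e (pullback.fst q t)) (pullback.fst m x2)) :=
    isEtaleMor_baseChange hU1 hW1 hW2 sqU2.flip hU1e
  have hU2s : Function.Surjective (Points.map
      (pullback.fst (pullback.snd e (pullback.fst q t)) (pullback.fst m x2))) :=
    surjective_of_isPullback sqU2 hW2s
  obtain ⟨U3, c3, -, hc3, hc3s⟩ := exists_chart hU2
  have hU3 : IsAlgSpace ((yon S).obj U3) := IsAlgSpace.yon_obj _
  have hP3 : P ((c3 ≫ pullback.snd (pullback.snd e (pullback.fst q t)) (pullback.fst m x2)) ≫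
      pullback.fst m x2 ≫ pullback.snd q t) := by
    have h5 := precompP h1 hU3 hU1 hV2 (c3 ≫ pullback.fst (pullback.snd e (pullback.fst q t))
      (pullback.fst m x2)) _ (isEtaleMor_comp hc3 hU2e) hU1P
    have h6 : (c3 ≫ pullback.fst (pullback.snd e (pullback.fst q t)) (pullback.fst m x2)) ≫
        pullback.snd e (pullback.fst q t) ≫ pullback.snd q t =
        (c3 ≫ pullback.snd (pullback.snd e (pullback.fst q t)) (pullback.fst m x2)) ≫
        pullback.fst m x2 ≫ pullback.snd q t := by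
      rw [Category.assoc, Category.assoc, ← Category.assoc (pullback.fst _ _), sqU2.w,
        Category.assoc]
    rwa [h6] at h5
  obtain ⟨v1, rfl⟩ := hU1s v
  obtain ⟨v2', rfl⟩ := hU2s v1
  obtain ⟨v3, rfl⟩ := hc3s v2'
  obtain ⟨X', a, ha, ⟨x, hx⟩, hPa⟩ := local_yon h1 h2 h3 f2 g2 hg2s _ _ sqW2' _
    (isEtaleMor_comp hc3 hU2e') hP3 v3
  refine ⟨_, (yon S).map a ≫ x2 ≫ pullback.fst f c, IsAlgSpace.yon_obj _,
    isEtaleMor_comp ((isEtaleMor_yon_map_iff _).2 ha) (isEtaleMor_comp hx2 hX1e), ⟨x, ?_⟩, ?_⟩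
  · rw [Points.map_comp, hx, ← Points.map_comp, ← Points.map_comp, ← Points.map_comp,
      ← Points.map_comp]
    congr 1
    simp only [Category.assoc]
    rw [← pullback.condition_assoc, m1, ← pullback.condition_assoc, ← pullback.condition_assoc]
  · have h5 : ((yon S).map a ≫ x2 ≫ pullback.fst f c) ≫ f = (yon S).map (a ≫ f2) ≫ c := by
      rw [Functor.map_comp, hf2]
      simp only [Category.assoc]
      rw [pullback.condition]
    rw [h5]
    exact post_space h1 h2 h3 (IsAlgSpace.yon_obj _) hY0 hY _ c hc hPa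

/-- Theorem: etale local on the source, smooth local on the base and stable under postcomposition
with open immersions implies etale-smooth local on source and target. -/
theorem isEtaleSmoothLocalST : IsEtaleSmoothLocalST P where
  precomp _ _ _ hX hY hZ f g hf hg := precompP h1 hX hY hZ f g hf hg
  baseChange _ _ _ _ hX hY hX' hY' f g f' g' sq hg hf := bcP h2 hX hY hX' hY' sq hg hf
  locality X Y hX hY f := by
    constructor
    · intro hf x
      refine ⟨Y, X, X, 𝟙 Y, 𝟙 X, f, 𝟙 X, x, hY, hX, hX, smooth_id hY,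
        IsPullback.of_horiz_isIso ⟨by rw [Category.id_comp, Category.comp_id]⟩,
        isEtaleMor_id X, ?_, ?_⟩
      · rw [Category.comp_id]; exact Points.map_id x
      · rw [Category.id_comp]; exact hf
    · intro H
      have key : ∀ x : Points X, ∃ (X' : Sp S) (a : X' ⟶ X), IsAlgSpace X' ∧ IsEtaleMor a ∧
          x ∈ Set.range (Points.map a) ∧ P (a ≫ f) := by
        intro x
        obtain ⟨V, W, U, b, p, q, e, v, hV, hW, hU, hb, sq, he, hv, hQ⟩ := H x
        rw [← hv]
        exact local_space h1 h2 h3 hX hY hV hW hU f b p q e hb sq he hQ v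
      obtain ⟨ι, x, hx⟩ := exists_small_points hX
      choose X' a hX' ha hxa hP using key
      refine (h1 (fun i => X' (x i)) (fun i => a (x i)) hX (fun i => hX' _)
        ⟨fun i => ha _, fun y => ?_⟩ f hY).2 fun i => hP _
      obtain ⟨i, rfl⟩ := hx y
      exact ⟨i, hxa _⟩

end K630.ES
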