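import Groth.Agent.AlgSp.K630.ESHyp

/-!
Postcomposition with separated etale morphisms having boundedly many geometric points in fibres.
-/

set_option autoImplicit false
universe u
open CategoryTheory CategoryTheory.Limits AlgebraicGeometry

namespace K630.ES

variable {S : Scheme.{u}} {Q : ∀ ⦃X Y : Scheme.{u}⦄, (X ⟶ Y) → (Y ⟶ S) → Prop}

/-- `g : V ⟶ Z` has at most `N` field valued points over each field valued point of `Z`. -/
def Bdd {V Z : Scheme.{u}} (g : V ⟶ Z) (N : ℕ) : Prop :=
  ∀ (K : Type u) [Field K] (ι : Type u) [Fintype ι] (s : ι → (Spec (.of K) ⟶ V))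
    (t : Spec (.of K) ⟶ Z), (∀ i, s i ≫ g = t) → N < Fintype.card ι → ∃ i j, i ≠ j ∧ s i = s j

/-- the claim of the descending induction -/
def Claim (Q : ∀ ⦃X Y : Scheme.{u}⦄, (X ⟶ Y) → (Y ⟶ S) → Prop) {X V Z : Scheme.{u}} (f : X ⟶ V)
    (g : V ⟶ Z) (z : Z ⟶ S) (ι : Type u) : Prop :=
  ∀ (T : Scheme.{u}) (t : T ⟶ Z) (s : ι → (T ⟶ V)), Etale t → (∀ i, s i ≫ g = t) →
    (∀ i j, i ≠ j → ∀ (R : Scheme.{u}) (r : R ⟶ T), r ≫ s i = r ≫ s j → IsEmpty R) →
    ∀ (XT : Scheme.{u}) (a : XT ⟶ X) (b : XT ⟶ T), IsPullback a b (f ≫ g) t → Q b (t ≫ z)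

theorem Hyp.of_isEmpty (H : Hyp S Q) {X Y : Scheme.{u}} (f : X ⟶ Y) (y : Y ⟶ S) [hX : IsEmpty X] :
    Q f y :=
  H.source (ι := PEmpty.{u + 1}) (fun i => i.elim) (fun i => i.elim) f y (fun i => i.elim)
    (fun x => (hX.false x).elim) (fun i => i.elim)

theorem Hyp.claim_of_card (H : Hyp S Q) {X V Z : Scheme.{u}} (f : X ⟶ V) (g : V ⟶ Z) (z : Z ⟶ S)
    (N : ℕ) (hN : Bdd g N) (ι : Type u) [Fintype ι] (hι : N < Fintype.card ι) :
    Claim Q f g z ι := by
  intro T t s ht hs hd XT a b sq
  have hT : IsEmpty T := by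
    refine ⟨fun x => ?_⟩
    obtain ⟨i, j, hij, e⟩ := hN (T.residueField x) ι (fun i => T.fromSpecResidueField x ≫ s i)
      (T.fromSpecResidueField x ≫ t) (fun i => by rw [Category.assoc, hs]) hι
    have := hd i j hij _ _ e
    exact this.false (IsLocalRing.closedPoint (T.residueField x))
  have : IsEmpty XT := Function.isEmpty b
  exact H.of_isEmpty _ _

theorem Hyp.claim_step (H : Hyp S Q) {X V Z : Scheme.{u}} (f : X ⟶ V) (g : V ⟶ Z) [Etale g]
    [IsSeparated g] (z : Z ⟶ S) (hf : Q f (g ≫ z)) (ι : Type u) [Finite ι]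
    (h : Claim Q f g z (Option ι)) : Claim Q f g z ι := by
  intro T t s ht hs hd XT a b sq
  let γ : ι → (T ⟶ pullback g t) := fun i => pullback.lift (s i) (𝟙 T) (by
    rw [hs i, Category.id_comp])
  have γ1 : ∀ i, γ i ≫ pullback.fst g t = s i := fun i => pullback.lift_fst _ _ _
  have γ2 : ∀ i, γ i ≫ pullback.snd g t = 𝟙 T := fun i => pullback.lift_snd _ _ _
  have hs' : ∀ i, Etale (s i) := fun i => by
    have : Etale (s i ≫ g) := by rw [hs i]; exact ht
    exact Etale.of_comp (s i) g
  have γe : ∀ i, Etale (γ i) := fun i => by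
    have : Etale (γ i ≫ pullback.snd g t) := by rw [γ2 i]; infer_instance
    exact Etale.of_comp (γ i) (pullback.snd g t)
  have γc : ∀ i, IsClosedImmersion (γ i) := fun i => by
    have : IsClosedImmersion (γ i ≫ pullback.snd g t) := by rw [γ2 i]; infer_instance
    exact IsClosedImmersion.of_comp (γ i) (pullback.snd g t)
  let T' : (pullback g t).Opens := ⟨(⋃ i, Set.range (γ i))ᶜ, by
    rw [isOpen_compl_iff]
    exact isClosed_iUnion_of_finite fun i => (γ i).isClosedEmbedding.isClosed_range⟩
  let τ : (T' : Scheme.{u}) ⟶ T := T'.ι ≫ pullback.snd g t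
  have hτ : Etale τ := inferInstance
  let c : XT ⟶ pullback g t := pullback.lift (a ≫ f) b (by rw [Category.assoc, sq.w])
  have c1 : c ≫ pullback.fst g t = a ≫ f := pullback.lift_fst _ _ _
  have c2 : c ≫ pullback.snd g t = b := pullback.lift_snd _ _ _
  have sqc : IsPullback a c f (pullback.fst g t) := by
    refine (IsPullback.of_right (h₁₂ := pullback.snd g t) (v₁₃ := t) (h₂₂ := g) ?_ c1
      (IsPullback.of_hasPullback g t).flip).flip
    rw [c2]
    exact sq.flip
  let E : Option ι → Scheme.{u} := fun o => match o with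
    | none => pullback c T'.ι
    | some i => pullback c (γ i)
  let e : ∀ o, E o ⟶ XT := fun o => match o with
    | none => pullback.fst c T'.ι
    | some i => pullback.fst c (γ i)
  refine H.source E e b (t ≫ z) ?_ ?_ ?_
  · rintro (_ | i)
    · exact (inferInstance : Etale (pullback.fst c T'.ι))
    · exact (inferInstance : Etale (pullback.fst c (γ i)))
  · intro x
    by_cases hx : c x ∈ (⋃ i, Set.range (γ i))
    · obtain ⟨i, y, hy⟩ := Set.mem_iUnion.1 hx
      obtain ⟨w, hw, _⟩ := Scheme.Pullback.exists_preimage_pullback x y hy.symm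
      exact ⟨some i, w, hw⟩
    · obtain ⟨w, hw, _⟩ := Scheme.Pullback.exists_preimage_pullback (f := c) (g := T'.ι) x
        (⟨c x, hx⟩ : T') rfl
      exact ⟨none, w, hw⟩
  · rintro (_ | i)
    · -- the open part
      have sq' := IsPullback.of_hasPullback b τ
      have h1 : Q (pullback.snd b τ) (τ ≫ t ≫ z) := by
        rw [← Category.assoc]
        refine h T' (τ ≫ t) (fun o => match o with
          | none => T'.ι ≫ pullback.fst g t
          | some i => τ ≫ s i) inferInstance ?_ ?_ (pullback b τ) (pullback.fst b τ ≫ a)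
          (pullback.snd b τ) ?_
        · rintro (_ | i)
          · simp only [Category.assoc, pullback.condition, τ]
          · simp only [Category.assoc, hs i]
        · have key : ∀ (i : ι) (R : Scheme.{u}) (r : R ⟶ T'),
              r ≫ T'.ι ≫ pullback.fst g t = r ≫ τ ≫ s i → IsEmpty R := by
            intro i R r hr
            refine ⟨fun x => ?_⟩
            have h2 : r ≫ T'.ι = (r ≫ τ) ≫ γ i := by
              apply pullback.hom_ext
              · simp only [Category.assoc, γ1] at hr ⊢
                exact hr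
              · simp only [Category.assoc, γ2, Category.comp_id, τ]
            have h3 : (T'.ι (r x)) ∈ ⋃ i, Set.range (γ i) := by
              refine Set.mem_iUnion.2 ⟨i, (r ≫ τ) x, ?_⟩
              rw [← Scheme.Hom.comp_apply, ← h2]
              rfl
            exact (r x).2 h3
          rintro (_ | i) (_ | j) hij R r hr
          · exact (hij rfl).elim
          · exact key j R r hr
          · exact key i R r hr.symm
          · refine hd i j (fun e => hij (by rw [e])) R (r ≫ τ) ?_
            simpa only [Category.assoc] using hr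
        · exact sq'.paste_horiz sq
      refine H.of_base_image b (t ≫ z) τ _ _ sq' h1 (pullback.fst c T'.ι) ?_
      have h2 : pullback.fst c T'.ι ≫ b = pullback.snd c T'.ι ≫ τ := by
        rw [← c2, ← Category.assoc, pullback.condition, Category.assoc]
      rw [h2]
      rintro _ ⟨x, rfl⟩
      exact ⟨pullback.snd c T'.ι x, rfl⟩
    · have h1 : pullback.fst c (γ i) ≫ b = pullback.snd c (γ i) := by
        rw [← c2, ← Category.assoc, pullback.condition, Category.assoc, γ2, Category.comp_id]
      change Q (pullback.fst c (γ i) ≫ b) (t ≫ z)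
      rw [h1]
      have sq1 : IsPullback (pullback.fst c (γ i) ≫ a) (pullback.snd c (γ i)) f (s i) := by
        have := (IsPullback.of_hasPullback c (γ i)).paste_horiz sqc
        rwa [γ1 i] at this
      have := H.baseChange f (s i) _ _ (g ≫ z) sq1 inferInstance hf
      rwa [← Category.assoc, hs i] at this

/-- Postcomposition with a separated etale morphism with bounded fibres. -/
theorem Hyp.post_of_bdd (H : Hyp S Q) {X V Z : Scheme.{u}} (f : X ⟶ V) (g : V ⟶ Z) [Etale g]
    [IsSeparated g] (z : Z ⟶ S) (N : ℕ) (hN : Bdd g N) (hf : Q f (g ≫ z)) : Q (f ≫ g) z := by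
  have key : ∀ (k : ℕ) (ι : Type u) [Fintype ι], N < Fintype.card ι + k → Claim Q f g z ι := by
    intro k
    induction k with
    | zero => exact fun ι _ h => H.claim_of_card f g z N hN ι h
    | succ k ih =>
      intro ι _ h
      refine H.claim_step f g z hf ι (ih (Option ι) ?_)
      rw [Fintype.card_option]
      omega
  have := key (N + 1) PEmpty.{u + 1} (by rw [Fintype.card_pempty]; omega) Z (𝟙 Z)
    (fun i => i.elim) inferInstance (fun i => i.elim) (fun i => i.elim) X (𝟙 X) (f ≫ g)
    (IsPullback.of_horiz_isIso ⟨by simp⟩)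
  rwa [Category.id_comp] at this

end K630.ES
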