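import Groth.Agent.AlgSp.K630.ESLine

/-!
Translating a point of a fibre of the affine line by a root of unity into a given nonempty open
subset, and the etale algebra of `m`-th roots of unity.
-/

set_option autoImplicit false
universe u
open CategoryTheory CategoryTheory.Limits AlgebraicGeometry Polynomial

namespace K630.ES

/-- The standard etale algebra of `m`-th roots of unity, `m` inverted. -/
noncomputable def muPair (A : Type u) [CommRing A] (m : ℕ) (hm : 0 < m) : StandardEtalePair A where
  f := X ^ m - 1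
  monic_f := by
    have := monic_X_pow_sub_C (1 : A) hm.ne'
    rwa [map_one] at this
  g := C (m : A)
  cond := ⟨X, - C (m : A), 1, by
    obtain ⟨k, rfl⟩ := Nat.exists_eq_add_of_lt hm
    simp only [derivative_sub, derivative_X_pow, derivative_one, sub_zero, pow_one,
      Nat.add_sub_cancel]
    rw [pow_succ]
    ring⟩

/-- algebraically closed field: a root of unity `ζ` with `p (s + ζ) ≠ 0`. -/
theorem exists_root {K : Type u} [Field K] [IsAlgClosed K] (p : K[X]) (hp : p ≠ 0) (s : K) :
    ∃ (m : ℕ) (ζ : K), 0 < m ∧ (m : K) ≠ 0 ∧ ζ ^ m = 1 ∧ p.eval (s + ζ) ≠ 0 := by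
  classical
  obtain ⟨m, hm0, hmK, hmp⟩ : ∃ m : ℕ, 0 < m ∧ (m : K) ≠ 0 ∧ p.natDegree < m := by
    by_cases h : ((p.natDegree + 1 : ℕ) : K) = 0
    · refine ⟨p.natDegree + 2, by omega, ?_, by omega⟩
      intro h'
      apply one_ne_zero (α := K)
      have : ((p.natDegree + 2 : ℕ) : K) = ((p.natDegree + 1 : ℕ) : K) + 1 := by push_cast; ring
      rw [h, zero_add] at this
      rw [← this, h']
    · exact ⟨p.natDegree + 1, by omega, h, by omega⟩
  by_contra hc
  push Not at hc
  have hsep : (X ^ m - C 1 : K[X]).Separable := separable_X_pow_sub_C (1 : K) hmK one_ne_zero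
  have hcard : (nthRoots m (1 : K)).toFinset.card = m := by
    rw [nthRoots, Multiset.toFinset_card_of_nodup (nodup_roots hsep),
      ← (IsAlgClosed.splits (X ^ m - C (1 : K))).natDegree_eq_card_roots, natDegree_X_pow_sub_C]
  have h1 : ∀ ζ ∈ (nthRoots m (1 : K)).toFinset, s + ζ ∈ p.roots.toFinset := fun ζ hζ => by
    rw [Multiset.mem_toFinset, mem_nthRoots hm0] at hζ
    rw [Multiset.mem_toFinset, mem_roots hp]
    exact hc m ζ hm0 hmK hζ
  have h2 := Finset.card_le_card_of_injOn (fun ζ => s + ζ) h1 (fun _ _ _ _ h => add_left_cancel h)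
  have h3 := (Multiset.toFinset_card_le p.roots).trans (card_roots' p)
  omega

end K630.ES
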