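import Groth.Agent.AlgSp.K630.ESHypP

/-!
Etale-smooth locality on source and target for algebraic spaces.
-/

set_option autoImplicit false
universe u
open CategoryTheory CategoryTheory.Limits AlgebraicGeometry
open AlgSp

namespace K630.ES

variable {S : Scheme.{u}}

theorem surjective_of_isPullback {X Y X' Y' : Sp S} {f : X ⟶ Y} {g : Y' ⟶ Y} {f' : X' ⟶ Y'}
    {g' : X' ⟶ X} (sq : IsPullback g' f' f g) (hg : Function.Surjective (Points.map g)) :
    Function.Surjective (Points.map g') := by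
  intro x
  obtain ⟨y, hy⟩ := hg (Points.map f x)
  obtain ⟨z, hz, _⟩ := points_exists_lift sq x y hy.symm
  exact ⟨z, hz⟩

/-- An algebraic space has an etale surjective chart. -/
theorem exists_chart {X : Sp S} (hX : IsAlgSpace X) :
    ∃ (U : Over S) (a : (yon S).obj U ⟶ X), RepWith @Etale a ∧ IsEtaleMor a ∧
      Function.Surjective (Points.map a) := by
  obtain ⟨U, a, ha, has⟩ := hX.atlas
  refine ⟨U, a, ha, isEtaleMor_of_repWith ha, fun x => ?_⟩
  obtain ⟨t, rfl⟩ := (isQuotientMap_ofPt a ha has).surjective x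
  exact ⟨Points.ofScheme U t, (Points.ofPt_eq_map_ofScheme a t).symm⟩

variable {P : MorphismProperty (Sp S)} (h1 : IsLocalOnSource (IsEtCover (S := S)) P)
  (h2 : IsLocalOnBase (IsSmCover (S := S)) P)
  (h3 : ∀ ⦃X Y Z : Sp S⦄, IsAlgSpace X → IsAlgSpace Y → IsAlgSpace Z →
      ∀ (f : X ⟶ Y) (j : Y ⟶ Z), P f → RepWith @IsOpenImmersion j → P (f ≫ j))

include h1 h2 h3

theorem post_yon {X : Sp S} (hX : IsAlgSpace X) {V Z : Over S} (f : X ⟶ (yon S).obj V)
    (g : V ⟶ Z) (hg : Etale g.left) (hf : P f) : P (f ≫ (yon S).map g) := by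
  obtain ⟨U, a, -, ha, has⟩ := exists_chart hX
  refine source1 h1 (IsAlgSpace.yon_obj _) hX (IsAlgSpace.yon_obj _) a ha has _ ?_
  obtain ⟨h, hh⟩ := (yon S).map_surjective (a ≫ f)
  have h4 : P ((yon S).map h) := by
    rw [hh]
    exact precompP h1 (IsAlgSpace.yon_obj _) hX (IsAlgSpace.yon_obj _) a f ha hf
  rw [← Category.assoc, ← hh, ← Functor.map_comp]
  have h5 := (hyp h1 h2 h3).post h.left g.left Z.hom (by
    rw [Over.w g]
    exact (ofP_left_iff P h).2 h4)
  exact (ofP_left_iff P (h ≫ g)).1 h5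

theorem post_space {X V Z : Sp S} (hX : IsAlgSpace X) (hV : IsAlgSpace V) (hZ : IsAlgSpace Z)
    (f : X ⟶ V) (g : V ⟶ Z) (hg : IsEtaleMor g) (hf : P f) : P (f ≫ g) := by
  obtain ⟨Z0, c, -, hc, hcs⟩ := exists_chart hZ
  have sqV := IsPullback.of_hasPullback g c
  have hV1 := isAlgSpace_of_isPullback hV (IsAlgSpace.yon_obj _) hZ sqV
  have sqX := IsPullback.of_hasPullback f (pullback.fst g c)
  have hX1 := isAlgSpace_of_isPullback hX hV1 hV sqX
  have hVe : IsEtaleMor (pullback.fst g c) :=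
    isEtaleMor_baseChange (IsAlgSpace.yon_obj _) hZ hV sqV hc
  have hVe' : IsEtaleMor (pullback.snd g c) :=
    isEtaleMor_baseChange hV hZ (IsAlgSpace.yon_obj _) sqV.flip hg
  have hf1 : P (pullback.snd f (pullback.fst g c)) :=
    bcP h2 hX hV hX1 hV1 sqX (smooth_of_isEtaleMor hV1 hV hVe) hf
  refine base1 h2 hX hZ hX1 (IsAlgSpace.yon_obj _) (sqX.paste_vert sqV)
    (smooth_of_isEtaleMor (IsAlgSpace.yon_obj _) hZ hc) hcs ?_
  obtain ⟨V2, d, -, hd, hds⟩ := exists_chart hV1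
  have sqX2 := IsPullback.of_hasPullback (pullback.snd f (pullback.fst g c)) d
  have hX2 := isAlgSpace_of_isPullback hX1 (IsAlgSpace.yon_obj _) hV1 sqX2
  refine source1 h1 hX2 hX1 (IsAlgSpace.yon_obj _) (pullback.fst _ d)
    (isEtaleMor_baseChange (IsAlgSpace.yon_obj _) hV1 hX1 sqX2 hd)
    (surjective_of_isPullback sqX2 hds) _ ?_
  obtain ⟨r, hr⟩ := (yon S).map_surjective (d ≫ pullback.snd g c)
  have hre : Etale r.left := by
    rw [← isEtaleMor_yon_map_iff, hr]
    exact isEtaleMor_comp hd hVe'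
  have hf2 := bcP h2 hX1 hV1 hX2 (IsAlgSpace.yon_obj _) sqX2
    (smooth_of_isEtaleMor (IsAlgSpace.yon_obj _) hV1 hd) hf1
  have := post_yon h1 h2 h3 hX2 _ r hre hf2
  rwa [hr, ← Category.assoc, ← sqX2.w, Category.assoc] at this

end K630.ES
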