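import Groth.Agent.AlgSp.K630.ESRoot
import Mathlib.AlgebraicGeometry.Morphisms.UniversallyOpen

/-!
For `U` etale over the affine line over `B` and surjective over `Spec B`, every point of the affine
line can be translated by a root of unity (over an extension) into the image of `U`.
-/

set_option autoImplicit false
universe u
open CategoryTheory CategoryTheory.Limits AlgebraicGeometry Polynomial

namespace K630.ES

/-- the point of `Spec R` given by a ring map to a field -/
noncomputable def kpt {R K : Type u} [CommRing R] [Field K] (ρ : R →+* K) : (Spec (.of R) : Scheme.{u}) :=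
  Sm ρ (IsLocalRing.closedPoint K)

theorem Sm_kpt {R R' K : Type u} [CommRing R] [CommRing R'] [Field K] (ρ : R →+* K) (τ : R' →+* R) :
    Sm τ (kpt ρ) = kpt (ρ.comp τ) := by
  rw [kpt, kpt, ← Sm_comp]
  rfl

theorem kpt_asIdeal {R K : Type u} [CommRing R] [Field K] (ρ : R →+* K) :
    (show PrimeSpectrum R from kpt ρ).asIdeal = RingHom.ker ρ := by
  change Ideal.comap ρ (IsLocalRing.maximalIdeal K) = _
  rw [IsLocalRing.maximalIdeal_eq_bot]
  rfl

theorem kpt_mem_iff {R K : Type u} [CommRing R] [Field K] (ρ : R →+* K) (r : R) :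
    (show PrimeSpectrum R from kpt ρ) ∈ PrimeSpectrum.basicOpen r ↔ ρ r ≠ 0 := by
  rw [PrimeSpectrum.mem_basicOpen, kpt_asIdeal, RingHom.mem_ker]

theorem exists_kpt' {R : Type u} [CommRing R] (w : PrimeSpectrum R) :
    ∃ (K : Type u) (_ : Field K) (_ : IsAlgClosed K) (ρ : R →+* K),
      (show PrimeSpectrum R from kpt ρ) = w := by
  refine ⟨AlgebraicClosure w.asIdeal.ResidueField, inferInstance, inferInstance,
    (algebraMap w.asIdeal.ResidueField _).comp (algebraMap R w.asIdeal.ResidueField), ?_⟩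
  apply PrimeSpectrum.ext
  rw [kpt_asIdeal]
  ext r
  rw [RingHom.mem_ker, RingHom.comp_apply, map_eq_zero_iff _ (RingHom.injective _),
    Ideal.algebraMap_residueField_eq_zero]

theorem exists_kpt {R : Type u} [CommRing R] (w : (Spec (.of R) : Scheme.{u})) :
    ∃ (K : Type u) (_ : Field K) (_ : IsAlgClosed K) (ρ : R →+* K), kpt ρ = w :=
  exists_kpt' w

theorem exists_translate {B : Type u} [CommRing B] {U : Scheme.{u}} (e : U ⟶ L B) [Etale e]
    [hs : Surjective (e ≫ Lpi B)] (w : L B) :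
    ∃ (K : Type u) (_ : Field K) (b : B →+* K) (s ζ : K) (m : ℕ) (u : U),
      0 < m ∧ (m : K) ≠ 0 ∧ ζ ^ m = 1 ∧ kpt (eval₂RingHom b s) = w ∧
      e u = kpt (eval₂RingHom b (s + ζ)) := by
  obtain ⟨K, _, _, ω, hω⟩ := exists_kpt w
  let b : B →+* K := ω.comp C
  let s : K := ω X
  have hbs : eval₂RingHom b s = ω := by
    apply Polynomial.ringHom_ext
    · intro r; simp [b]
    · simp [s]
  obtain ⟨u₀, hu₀⟩ := hs.surj (kpt b)
  have hne : (Set.range (pullback.snd e (Lmap b))).Nonempty := by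
    have sq := isPullback_L b
    obtain ⟨t, -, ht⟩ := Scheme.exists_preimage_of_isPullback sq (IsLocalRing.closedPoint K)
      (e u₀) (by rw [← Scheme.Hom.comp_apply e, hu₀]; rfl)
    obtain ⟨v, hv, _⟩ := Scheme.Pullback.exists_preimage_pullback (f := e) (g := Lmap b) u₀ t
      ht.symm
    exact ⟨_, ⟨v, rfl⟩⟩
  have hopen : IsOpen (Set.range (pullback.snd e (Lmap b))) :=
    (pullback.snd e (Lmap b)).isOpenMap.isOpen_range
  obtain ⟨t, ht⟩ := hne
  obtain ⟨_, ⟨p, rfl⟩, hp1, hp2⟩ := (PrimeSpectrum.isTopologicalBasis_basic_opens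
    (R := K[X])).exists_subset_of_mem_open ht hopen
  have hp : p ≠ 0 := by
    rintro rfl
    simp at hp1
  obtain ⟨m, ζ, hm, hmK, hζ, hpz⟩ := exists_root p hp s
  have h1 : (kpt (evalRingHom (s + ζ)) : L K) ∈ Set.range (pullback.snd e (Lmap b)) :=
    hp2 ((kpt_mem_iff _ _).2 hpz)
  obtain ⟨v, hv⟩ := h1
  refine ⟨K, inferInstance, b, s, ζ, m, pullback.fst e (Lmap b) v, hm, hmK, hζ, by rw [hbs, hω], ?_⟩
  rw [← Scheme.Hom.comp_apply, pullback.condition, Scheme.Hom.comp_apply, hv, Sm_kpt]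
  congr 1
  apply Polynomial.ringHom_ext
  · intro r; simp [b]
  · simp

end K630.ES
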