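import Groth.Agent.S7482
import Groth.Agent.S1402
import Groth.Agent.Desc.OpenDD
import Groth.Agent.AlgSp.K618.Sch

/-!
Effectivity of descent data on separated etale schemes for fpqc coverings (from S7482).
-/

set_option autoImplicit false
universe u
open CategoryTheory CategoryTheory.Limits AlgebraicGeometry

namespace K630.EffEt

theorem ofArrows_mem {X T : Scheme.{u}} (p : X ⟶ T) [Flat p] [Surjective p] [QuasiCompact p] :
    Presieve.ofArrows (fun _ : PUnit.{u + 1} => X) (fun _ => p) ∈ Scheme.fpqcPrecoverage T := by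
  rw [Presieve.ofArrows_pUnit]
  exact Scheme.Hom.singleton_mem_propQCPrecoverage ‹_›

/-- A descent datum relative to an fpqc covering on a separated etale scheme is effective. -/
theorem exists_isEff {X T : Scheme.{u}} (p : X ⟶ T) [Flat p] [Surjective p] [QuasiCompact p]
    (D : Desc.SchDD p) [Etale D.obj.hom] [IsSeparated D.obj.hom] :
    ∃ (U : Over T) (q : D.obj.left ⟶ U.left), Groth.Agent.Desc.OpenDD.IsEff D U q := by
  have := K618.Sch.locallyQuasiFinite_of_etale D.obj.hom
  have h := Groth.Agent.S7482.result (fun _ : PUnit.{u + 1} => p) (ofArrows_mem p)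
    ((Desc.SchDDFam.ofSchDD p).obj D) (fun _ => Groth.Agent.S1402.result D.obj.hom)
  obtain ⟨U, ⟨e⟩⟩ := h
  have e' : (Desc.toDD p).obj U ≅ D := (Desc.SchDDFam.toSchDD p).mapIso e
  obtain ⟨q, hq⟩ := (Groth.Agent.Desc.OpenDD.nonempty_iso_iff D U).1 ⟨e'⟩
  exact ⟨U, q, hq⟩

end K630.EffEt
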