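import Groth.Agent.AlgSp.K630.Kit
import Groth.Prelude.Def_AlgSpCov

/-!
Elementary consequences: identities, etale => smooth / flat / lfp, open maps, small covers.
-/

set_option autoImplicit false
universe u
open CategoryTheory CategoryTheory.Limits AlgebraicGeometry
open AlgSp

namespace K630

variable {S : Scheme.{u}}

theorem isEtaleMor_id (X : Sp S) : IsEtaleMor (𝟙 X) := fun _ φ hφ => by
  rwa [Category.comp_id]

theorem isEtaleMor_comp {X Y Z : Sp S} {f : X ⟶ Y} {g : Y ⟶ Z} (hf : IsEtaleMor f)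
    (hg : IsEtaleMor g) : IsEtaleMor (f ≫ g) := fun _ φ hφ => by
  rw [← Category.assoc]
  exact hg _ (hf _ hφ)

/-- An etale morphism has `P` for every listed `P` containing identities. -/
theorem locP_of_isEtaleMor {P : MorphismProperty Scheme.{u}} (hP : Good P)
    (hid : ∀ U : Scheme.{u}, P (𝟙 U)) {X Y : Sp S} (hX : IsAlgSpace X) (hY : IsAlgSpace Y)
    {f : X ⟶ Y} (hf : IsEtaleMor f) : LocP P f := by
  obtain ⟨U, a, ha, has⟩ := hX.atlas
  exact locP_of_chart hP f a (a ≫ f) (𝟙 U) ha has (hf a ha)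
    (by rw [CategoryTheory.Functor.map_id, Category.id_comp]) (hid _)

theorem smooth_of_isEtaleMor {X Y : Sp S} (hX : IsAlgSpace X) (hY : IsAlgSpace Y)
    {f : X ⟶ Y} (hf : IsEtaleMor f) : LocP @Smooth f :=
  locP_of_isEtaleMor good_smooth (fun _ => inferInstance) hX hY hf

theorem flat_of_isEtaleMor {X Y : Sp S} (hX : IsAlgSpace X) (hY : IsAlgSpace Y)
    {f : X ⟶ Y} (hf : IsEtaleMor f) : LocP @Flat f :=
  locP_of_isEtaleMor good_flat (fun _ => inferInstance) hX hY hf

theorem lfp_of_isEtaleMor {X Y : Sp S} (hX : IsAlgSpace X) (hY : IsAlgSpace Y)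
    {f : X ⟶ Y} (hf : IsEtaleMor f) : LocP @LocallyOfFinitePresentation f :=
  locP_of_isEtaleMor good_lfp (fun _ => inferInstance) hX hY hf

theorem smooth_id {X : Sp S} (hX : IsAlgSpace X) : LocP @Smooth (𝟙 X) :=
  smooth_of_isEtaleMor hX hX (isEtaleMor_id X)

theorem flat_of_smooth {X Y : Sp S} {f : X ⟶ Y} (hf : LocP @Smooth f) : LocP @Flat f :=
  fun _ _ a b h ha hb e => have := hf a b h ha hb e; inferInstance

theorem lfp_of_smooth {X Y : Sp S} {f : X ⟶ Y} (hf : LocP @Smooth f) :
    LocP @LocallyOfFinitePresentation f :=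
  fun _ _ a b h ha hb e => have := hf a b h ha hb e; inferInstance

/-- Representable etale morphisms are etale. -/
theorem isEtaleMor_of_repWith {X Y : Sp S} {f : X ⟶ Y} (hf : RepWith @Etale f) : IsEtaleMor f :=
  fun _ _ hφ => by
    have := repWith_isMultiplicative (S := S) @Etale
    exact MorphismProperty.comp_mem _ _ _ hφ hf

theorem isEtaleMor_of_isOpenImmersion {X Y : Sp S} {f : X ⟶ Y} (hf : RepWith @IsOpenImmersion f) :
    IsEtaleMor f :=
  isEtaleMor_of_repWith ⟨hf.1, fun _ _ g fst snd h => by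
    have : IsOpenImmersion snd.left := hf.2 g fst snd h
    exact (inferInstance : Etale snd.left)⟩

/-- Every morphism of algebraic spaces has a chart diagram with etale surjective charts. -/
theorem exists_chart_diagram {X Y : Sp S} (hX : IsAlgSpace X) (hY : IsAlgSpace Y) (f : X ⟶ Y) :
    ∃ (U V : Over S) (a : (yon S).obj U ⟶ X) (b : (yon S).obj V ⟶ Y) (h : U ⟶ V),
      RepWith @Etale a ∧ RepWith @Surjective a ∧ RepWith @Etale b ∧ RepWith @Surjective b ∧
      a ≫ f = (yon S).map h ≫ b := by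
  obtain ⟨V, b, hb, hbs⟩ := hY.atlas
  obtain ⟨U, a, h, ha, has, e⟩ := exists_chart_lift hX f b hb hbs
  exact ⟨U, V, a, b, h, ha, has, hb, hbs, e⟩

/-- A flat and locally finitely presented morphism of algebraic spaces is open on points. -/
theorem isOpenMap_of_flat_lfp {X Y : Sp S} (hX : IsAlgSpace X) (hY : IsAlgSpace Y) {f : X ⟶ Y}
    (h1 : LocP @Flat f) (h2 : LocP @LocallyOfFinitePresentation f) :
    IsOpenMap (Points.map f) := by
  obtain ⟨U, V, a, b, h, ha, has, hb, hbs, e⟩ := exists_chart_diagram hX hY f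
  have : Flat h.left := h1 a b h ha hb e
  have : LocallyOfFinitePresentation h.left := h2 a b h ha hb e
  intro W hW
  have key : Points.map f '' W = Points.ofPt b '' (h.left '' (Points.ofPt a ⁻¹' W)) := by
    have hc : ∀ t, Points.map f (Points.ofPt a t) = Points.ofPt b (h.left t) := fun t => by
      rw [Points.map_ofPt, e, Points.ofPt_eq_map_ofScheme, Points.map_comp]
      have : Points.map ((yon S).map h) (Points.ofScheme U t) = Points.ofScheme V (h.left t) :=
        Points.map_yon_map_apply h t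
      rw [this, ← Points.ofPt_eq_map_ofScheme]
    ext y
    constructor
    · rintro ⟨x, hx, rfl⟩
      obtain ⟨t, rfl⟩ := (isQuotientMap_ofPt a ha has).surjective x
      exact ⟨h.left t, ⟨t, hx, rfl⟩, (hc t).symm⟩
    · rintro ⟨_, ⟨t, ht, rfl⟩, rfl⟩
      exact ⟨Points.ofPt a t, ht, hc t⟩
  rw [key]
  refine isOpenMap_ofPt b hb _ ?_
  exact h.left.isOpenMap _ (hW.preimage (Points.continuous_ofPt a))

theorem isOpenMap_of_isEtaleMor {X Y : Sp S} (hX : IsAlgSpace X) (hY : IsAlgSpace Y) (f : X ⟶ Y)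
    (hf : IsEtaleMor f) : IsOpenMap (Points.map f) :=
  isOpenMap_of_flat_lfp hX hY (flat_of_isEtaleMor hX hY hf) (lfp_of_isEtaleMor hX hY hf)

end K630
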