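import Groth.Agent.AlgSp.K630.FpqcUniq
import Groth.Agent.AlgSp.K630.EffEt
import Groth.Agent.AlgSp.K596.Univ
import Mathlib.AlgebraicGeometry.Sites.Fpqc

/-!
The descent datum on `h_V ×_X h_T'` for a map `c : h_T' ⟶ X` compatible with an fpqc covering
`T' ⟶ T`.
-/

set_option autoImplicit false
universe u
open CategoryTheory CategoryTheory.Limits AlgebraicGeometry Opposite
open AlgSp

namespace K630.FpqcSp

variable {S : Scheme.{u}} {X : Sp S}

section

variable {V T' W : Over S} {m : (yon S).obj V ⟶ X} {c : (yon S).obj T' ⟶ X} {l : W ⟶ V}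
  {w : W ⟶ T'} (sq : IsPullback ((yon S).map l) ((yon S).map w) m c)

include sq

theorem exists_point {R : Scheme.{u}} (r : R ⟶ S) (x : R ⟶ T'.left) (hx : x ≫ T'.hom = r)
    (y : R ⟶ V.left) (hy : y ≫ V.hom = r)
    (hxy : (yon S).map (Over.homMk y hy : Over.mk r ⟶ V) ≫ m =
      (yon S).map (Over.homMk x hx : Over.mk r ⟶ T') ≫ c) :
    ∃ v : R ⟶ W.left, v ≫ w.left = x ∧ v ≫ l.left = y := by
  obtain ⟨v, hv⟩ := (yon S).map_surjective (sq.lift _ _ hxy)
  refine ⟨v.left, ?_, ?_⟩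
  · have h1 : v ≫ w = Over.homMk x hx := (yon S).map_injective (by
      rw [Functor.map_comp, hv, IsPullback.lift_snd])
    exact congrArg (fun k => k.left) h1
  · have h1 : v ≫ l = Over.homMk y hy := (yon S).map_injective (by
      rw [Functor.map_comp, hv, IsPullback.lift_fst])
    exact congrArg (fun k => k.left) h1

theorem point_ext {R : Scheme.{u}} {v v' : R ⟶ W.left} (h1 : v ≫ w.left = v' ≫ w.left)
    (h2 : v ≫ l.left = v' ≫ l.left) : v = v' := by
  have hr : v' ≫ W.hom = v ≫ W.hom := by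
    rw [← Over.w w, ← Category.assoc, ← h1, Category.assoc]
  let a : Over.mk (v ≫ W.hom) ⟶ W := Over.homMk v rfl
  let b : Over.mk (v ≫ W.hom) ⟶ W := Over.homMk v' hr
  have hab : a = b := (yon S).map_injective (by
    apply sq.hom_ext
    · rw [← Functor.map_comp, ← Functor.map_comp]
      congr 1
      exact Over.OverMorphism.ext h2
    · rw [← Functor.map_comp, ← Functor.map_comp]
      congr 1
      exact Over.OverMorphism.ext h1)
  exact congrArg (fun k => k.left) hab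

variable {T : Over S} {p : T' ⟶ T}
  (hc : ∀ (R : Over S) (a b : R ⟶ T'), a ≫ p = b ≫ p → (yon S).map a ≫ c = (yon S).map b ≫ c)

include hc

theorem exists_move {R : Scheme.{u}} (x₀ x₁ : R ⟶ T'.left) (h : x₀ ≫ p.left = x₁ ≫ p.left)
    (v : R ⟶ W.left) (hv : v ≫ w.left = x₀) :
    ∃ v' : R ⟶ W.left, v' ≫ w.left = x₁ ∧ v' ≫ l.left = v ≫ l.left := by
  have hx₀ : x₀ ≫ T'.hom = x₁ ≫ T'.hom := by
    rw [← Over.w p, ← Category.assoc, h, Category.assoc]
  have hv' : v ≫ W.hom = x₁ ≫ T'.hom := by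
    rw [← Over.w w, ← Category.assoc, hv, hx₀]
  have hy : (v ≫ l.left) ≫ V.hom = x₁ ≫ T'.hom := by
    rw [Category.assoc, Over.w l, hv']
  refine exists_point sq (x₁ ≫ T'.hom) x₁ rfl (v ≫ l.left) hy ?_
  have h1 := hc (Over.mk (x₁ ≫ T'.hom)) (Over.homMk x₀ hx₀) (Over.homMk x₁ rfl)
    (Over.OverMorphism.ext h)
  rw [← h1]
  have h2 : (Over.homMk (v ≫ l.left) hy : Over.mk (x₁ ≫ T'.hom) ⟶ V) = (Over.homMk v hv' : Over.mk (x₁ ≫ T'.hom) ⟶ W) ≫ l :=
    Over.OverMorphism.ext rfl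
  have h3 : (Over.homMk x₀ hx₀ : Over.mk (x₁ ≫ T'.hom) ⟶ T') =
      (Over.homMk v hv' : Over.mk (x₁ ≫ T'.hom) ⟶ W) ≫ w :=
    Over.OverMorphism.ext hv.symm
  rw [h2, h3, Functor.map_comp, Functor.map_comp, Category.assoc, Category.assoc, sq.w]

/-- The transported point. -/
noncomputable def move {R : Scheme.{u}} (x₀ x₁ : R ⟶ T'.left) (h : x₀ ≫ p.left = x₁ ≫ p.left)
    (v : Desc.Lifts (Over.mk w.left) x₀) : Desc.Lifts (Over.mk w.left) x₁ :=
  ⟨(exists_move sq hc x₀ x₁ h v.1 v.2).choose,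
    (exists_move sq hc x₀ x₁ h v.1 v.2).choose_spec.1⟩

theorem move_l {R : Scheme.{u}} (x₀ x₁ : R ⟶ T'.left) (h : x₀ ≫ p.left = x₁ ≫ p.left)
    (v : Desc.Lifts (Over.mk w.left) x₀) :
    (move sq hc x₀ x₁ h v).1 ≫ l.left = v.1 ≫ l.left :=
  (exists_move sq hc x₀ x₁ h v.1 v.2).choose_spec.2

omit hc in
theorem lifts_ext {R : Scheme.{u}} {x : R ⟶ T'.left} {v v' : Desc.Lifts (Over.mk w.left) x}
    (h : v.1 ≫ l.left = v'.1 ≫ l.left) : v = v' :=
  Subtype.ext (point_ext sq (v.2.trans v'.2.symm) h)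

theorem move_comp {R : Scheme.{u}} (x₀ x₁ x₂ : R ⟶ T'.left) (h : x₀ ≫ p.left = x₁ ≫ p.left)
    (h' : x₁ ≫ p.left = x₂ ≫ p.left) (v : Desc.Lifts (Over.mk w.left) x₀) :
    move sq hc x₁ x₂ h' (move sq hc x₀ x₁ h v) = move sq hc x₀ x₂ (h.trans h') v :=
  lifts_ext sq (by rw [move_l, move_l, move_l])

/-- The descent datum. -/
noncomputable def datum : Desc.SchDD p.left where
  obj := Over.mk w.left
  φ R x₀ x₁ h :=
    { toFun := move sq hc x₀ x₁ h
      invFun := move sq hc x₁ x₀ h.symm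
      left_inv := fun v => lifts_ext sq (by rw [move_l, move_l])
      right_inv := fun v => lifts_ext sq (by rw [move_l, move_l]) }
  φ_natural R R' g x₀ x₁ h h' v v' e := by
    refine point_ext sq ?_ ?_
    · exact (move sq hc (g ≫ x₀) (g ≫ x₁) h' v').2.trans
        ((congrArg (g ≫ ·) (move sq hc x₀ x₁ h v).2.symm).trans (Category.assoc _ _ _).symm)
    · refine (move_l sq hc (g ≫ x₀) (g ≫ x₁) h' v').trans ?_
      rw [e]
      exact (Category.assoc _ _ _).trans ((congrArg (g ≫ ·) (move_l sq hc x₀ x₁ h v).symm).trans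
        (Category.assoc _ _ _).symm)
  φ_self R x v := lifts_ext sq (move_l sq hc x x rfl v)
  φ_comp R x₀ x₁ x₂ h₀₁ h₁₂ v := move_comp sq hc x₀ x₁ x₂ h₀₁ h₁₂ v

theorem datum_φ_l {R : Scheme.{u}} (x₀ x₁ : R ⟶ T'.left) (h : x₀ ≫ p.left = x₁ ≫ p.left)
    (v : Desc.Lifts (datum sq hc).obj x₀) :
    ((datum sq hc).φ x₀ x₁ h v).1 ≫ l.left = v.1 ≫ l.left :=
  move_l sq hc x₀ x₁ h v

end

/-- The descended chart. -/
theorem exists_descent {V T' W : Over S} {m : (yon S).obj V ⟶ X} {c : (yon S).obj T' ⟶ X}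
    {l : W ⟶ V} {w : W ⟶ T'} (sq : IsPullback ((yon S).map l) ((yon S).map w) m c)
    {T : Over S} {p : T' ⟶ T} [Flat p.left] [Surjective p.left] [QuasiCompact p.left]
    (hc : ∀ (R : Over S) (a b : R ⟶ T'), a ≫ p = b ≫ p →
      (yon S).map a ≫ c = (yon S).map b ≫ c) [Etale w.left] [IsSeparated w.left] :
    ∃ (W₀ : Over S) (w₀ : W₀ ⟶ T) (q : W ⟶ W₀) (l₀ : W₀ ⟶ V), Etale w₀.left ∧
      IsPullback w q p w₀ ∧ q ≫ l₀ = l := by
  have h1 : Etale (datum sq hc).obj.hom := ‹Etale w.left›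
  have h2 : IsSeparated (datum sq hc).obj.hom := ‹IsSeparated w.left›
  obtain ⟨U, q', hq⟩ := EffEt.exists_isEff p.left (datum sq hc)
  obtain ⟨q, hqq⟩ : ∃ q : W.left ⟶ U.left, q = q' := ⟨q', rfl⟩
  have sq1 : IsPullback w.left q p.left U.hom := by rw [hqq]; exact hq.isPullback
  -- `l` descends
  have key : ∀ {R : Scheme.{u}} (a b : R ⟶ W.left), a ≫ q = b ≫ q → a ≫ l.left = b ≫ l.left := by
    intro R a b hab
    have hx : (a ≫ w.left) ≫ p.left = (b ≫ w.left) ≫ p.left := by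
      rw [Category.assoc, sq1.w, ← Category.assoc, hab, Category.assoc, ← sq1.w, Category.assoc]
    have h3 := hq.φ_comp_q (a ≫ w.left) (b ≫ w.left) hx ⟨a, rfl⟩
    have h4 := datum_φ_l sq hc (a ≫ w.left) (b ≫ w.left) hx ⟨a, rfl⟩
    rw [← hqq] at h3
    have h5 : ((datum sq hc).φ (a ≫ w.left) (b ≫ w.left) hx ⟨a, rfl⟩).1 = b := by
      refine sq1.hom_ext ?_ ?_
      · exact ((datum sq hc).φ (a ≫ w.left) (b ≫ w.left) hx ⟨a, rfl⟩).2
      · exact h3.trans hab
    rw [h5] at h4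
    exact h4.symm
  clear hq hqq q'
  have hqf : Flat q := MorphismProperty.of_isPullback sq1 ‹Flat p.left›
  have hqs : Surjective q := MorphismProperty.of_isPullback sq1 ‹Surjective p.left›
  have hqc : QuasiCompact q := MorphismProperty.of_isPullback sq1 ‹QuasiCompact p.left›
  have hUe : Etale U.hom :=
    MorphismProperty.of_isPullback_of_descendsAlong (P := @Etale)
      (Q := @Surjective ⊓ @Flat ⊓ @QuasiCompact) sq1 ⟨⟨‹_›, ‹_›⟩, ‹_›⟩ ‹Etale w.left›
  have hmem : Sieve.generate (Presieve.singleton q) ∈ Scheme.fpqcTopology U.left :=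
    Scheme.Hom.generate_singleton_mem_propQCTopology q hqf
  have hyon : Presieve.IsSheaf Scheme.fpqcTopology (yoneda.obj V.left) :=
    GrothendieckTopology.Subcanonical.isSheaf_of_isRepresentable (J := Scheme.fpqcTopology) _
  have h6 := hyon _ hmem
  rw [← Presieve.isSheafFor_iff_generate, Presieve.isSheafFor_singleton] at h6
  obtain ⟨l₀, hl₀, -⟩ := h6 l.left fun a b hab => key a b hab
  have hl₀' : q ≫ l₀ = l.left := hl₀
  have hepi : Epi q := Flat.epi_of_flat_of_surjective q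
  let W₀ : Over S := Over.mk (U.hom ≫ T.hom)
  have hqW : q ≫ W₀.hom = W.hom := by
    change q ≫ U.hom ≫ T.hom = W.hom
    rw [← Category.assoc, ← sq1.w, Category.assoc, Over.w p, Over.w w]
  refine ⟨W₀, Over.homMk U.hom rfl, Over.homMk q hqW, Over.homMk l₀ ?_, hUe, ?_, ?_⟩
  · rw [← cancel_epi q, ← Category.assoc, hl₀', hqW, Over.w l]
  · exact K596.Univ.isPullback_over (Over.OverMorphism.ext sq1.w) sq1
  · exact Over.OverMorphism.ext hl₀'

end K630.FpqcSp
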