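import Mathlib.AlgebraicGeometry.Sites.Fpqc
import Mathlib.AlgebraicGeometry.Sites.SheafQuasiCompact
import Mathlib.CategoryTheory.Sites.Over

/-!
The presheaf `T ↦ Σ (t : T ⟶ S), F(T, t)` on `C` of a presheaf `F` on `Over S`; sheaf conditions of
`F` and of this presheaf. Criterion for a presheaf on schemes over `S` to be an fpqc sheaf.
-/

set_option autoImplicit false
universe w v u
open CategoryTheory CategoryTheory.Limits AlgebraicGeometry Opposite

namespace K630.TotPsh

section

variable {C : Type u} [Category.{v} C] {S : C} (F : (Over S)ᵒᵖ ⥤ Type w)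

theorem sig_ext {T : C} {t t' : T ⟶ S} (h : t = t') {y : F.obj (op (Over.mk t))}
    {y' : F.obj (op (Over.mk t'))}
    (hy : F.map (Over.homMk (𝟙 T) (by simp [h]) : Over.mk t' ⟶ Over.mk t).op y = y') :
    (⟨t, y⟩ : Σ t : T ⟶ S, F.obj (op (Over.mk t))) = ⟨t', y'⟩ := by
  subst h
  have : (Over.homMk (𝟙 T) (by simp) : Over.mk t ⟶ Over.mk t) = 𝟙 _ := by ext; simp
  rw [this, op_id, F.map_id_apply] at hy
  rw [hy]

/-- The total presheaf. -/
def Tot : Cᵒᵖ ⥤ Type (max v w) where
  obj T := Σ t : T.unop ⟶ S, F.obj (op (Over.mk t))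
  map {T T'} g := ↾fun z => ⟨g.unop ≫ z.1,
    F.map (Over.homMk g.unop : Over.mk (g.unop ≫ z.1) ⟶ Over.mk z.1).op z.2⟩
  map_id T := by
    ext z : 3
    refine sig_ext F (Category.id_comp _) ?_
    rw [← F.map_comp_apply, ← op_comp]
    refine (congrArg (fun k => F.map (Quiver.Hom.op k) z.2) ?_).trans (F.map_id_apply _ _)
    ext; simp
  map_comp {T T' T''} g g' := by
    ext z : 3
    refine sig_ext F (Category.assoc _ _ _) ?_
    rw [← F.map_comp_apply, ← op_comp]
    refine (congrArg (fun k => F.map (Quiver.Hom.op k) z.2) ?_).trans (F.map_comp_apply _ _ _)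
    ext; simp

variable {F}

/-- The element of the total presheaf given by a section. -/
def mk (Y : Over S) (y : F.obj (op Y)) : (Tot F).obj (op Y.left) := ⟨Y.hom, y⟩

/-- The section given by an element with the right structure map. -/
def tr (Y : Over S) (z : (Tot F).obj (op Y.left)) (h : z.1 = Y.hom) : F.obj (op Y) :=
  F.map (Over.homMk (𝟙 _) (by simp [h]) : Y ⟶ Over.mk z.1).op z.2

theorem mk_tr (Y : Over S) (z : (Tot F).obj (op Y.left)) (h : z.1 = Y.hom) :
    mk Y (tr Y z h) = z :=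
  (sig_ext F h rfl).symm

theorem mk_injective (Y : Over S) {y y' : F.obj (op Y)} (h : mk Y y = mk Y y') : y = y' :=
  eq_of_heq (Sigma.mk.inj h).2

theorem map_mk {Y Y' : Over S} (g : Y' ⟶ Y) (y : F.obj (op Y)) :
    (Tot F).map g.left.op (mk Y y) = mk Y' (F.map g.op y) := by
  refine sig_ext F (Over.w g) ?_
  have h1 : (Over.homMk g.left : Over.mk (g.left ≫ Y.hom) ⟶ Y).op ≫
      (Over.homMk (𝟙 Y'.left) (by simp) : Y' ⟶ Over.mk (g.left ≫ Y.hom)).op = g.op := by
    rw [← op_comp]
    congr 1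
    ext
    simp
  refine (F.map_comp_apply _ _ _).symm.trans ?_
  exact congrArg (fun k => F.map k y) h1

theorem map_fst {T T' : C} (g : T' ⟶ T) (z : (Tot F).obj (op T)) :
    ((Tot F).map g.op z).1 = g ≫ z.1 := rfl

theorem tr_mk (Y : Over S) (y : F.obj (op Y)) : tr Y (mk Y y) rfl = y :=
  mk_injective Y (mk_tr Y _ rfl)

theorem isSheafFor_tot {T : C} (R : Sieve T) (hS : Presieve.IsSheafFor (yoneda.obj S) R.arrows)
    (h : ∀ t : T ⟶ S, Presieve.IsSheafFor F ((Sieve.overEquiv (Over.mk t)).symm R).arrows) :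
    Presieve.IsSheafFor (Tot F) R.arrows := by
  intro x hx
  have hx' := (Presieve.compatible_iff_sieveCompatible x).1 hx
  let xs : Presieve.FamilyOfElements (yoneda.obj S) R.arrows := fun Y g hg => (x g hg).1
  have hxs : xs.Compatible := by
    rw [Presieve.compatible_iff_sieveCompatible]
    intro Y Z f g hf
    change (x (g ≫ f) _).1 = g ≫ (x f hf).1
    rw [hx' f g hf]
    rfl
  obtain ⟨t, ht, htu⟩ := hS xs hxs
  have ht' : ∀ {Y : C} (g : Y ⟶ T) (hg : R.arrows g), (x g hg).1 = g ≫ t := fun g hg =>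
    (ht g hg).symm
  have hmem : ∀ {Y : Over S} (k : Y ⟶ Over.mk t),
      ((Sieve.overEquiv (Over.mk t)).symm R).arrows k → R.arrows k.left := fun k hk =>
    (Sieve.overEquiv_symm_iff _ _).1 hk
  let xo : Presieve.FamilyOfElements F ((Sieve.overEquiv (Over.mk t)).symm R).arrows :=
    fun Y k hk => tr Y (x k.left (hmem k hk)) ((ht' _ _).trans (Over.w k))
  have hxo : xo.Compatible := by
    rw [Presieve.compatible_iff_sieveCompatible]
    intro Y Z f g hf
    apply mk_injective
    rw [mk_tr, ← map_mk, mk_tr]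
    exact hx' f.left g.left (hmem f hf)
  obtain ⟨y, hy, hyu⟩ := h t xo hxo
  refine ⟨mk (Over.mk t) y, ?_, ?_⟩
  · intro Y g hg
    have h1 := hy (Over.homMk g : Over.mk (g ≫ t) ⟶ Over.mk t) ((Sieve.overEquiv_symm_iff _ _).2 hg)
    have h2 := map_mk (Over.homMk g : Over.mk (g ≫ t) ⟶ Over.mk t) y
    rw [h1] at h2
    exact h2.trans (mk_tr _ _ _)
  · intro z hz
    have hz1 : z.1 = t := htu _ fun Y g hg => by
      change g ≫ z.1 = (x g hg).1
      rw [← hz g hg]; rfl
    rw [← mk_tr (Over.mk t) z hz1]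
    congr 1
    refine hyu _ fun Y k hk => ?_
    apply mk_injective
    rw [← map_mk, mk_tr, mk_tr]
    exact hz _ _

theorem isSheafFor_of_tot (Z : Over S) (R : Sieve Z)
    (hS : Presieve.IsSeparatedFor (yoneda.obj S) (Sieve.overEquiv Z R).arrows)
    (h : Presieve.IsSheafFor (Tot F) (Sieve.overEquiv Z R).arrows) :
    Presieve.IsSheafFor F R.arrows := by
  intro x hx
  have hx' := (Presieve.compatible_iff_sieveCompatible x).1 hx
  have hmem : ∀ {Y : C} (g : Y ⟶ Z.left), (Sieve.overEquiv Z R).arrows g →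
      R.arrows (Over.homMk g : Over.mk (g ≫ Z.hom) ⟶ Z) := fun g hg =>
    (Sieve.overEquiv_iff _ _).1 hg
  have hmem' : ∀ {Y : Over S} (k : Y ⟶ Z), R.arrows k → (Sieve.overEquiv Z R).arrows k.left :=
    fun {Y} k hk => by
      rw [Sieve.overEquiv_iff]
      have := R.downward_closed hk (Over.homMk (𝟙 _) : Over.mk (k.left ≫ Z.hom) ⟶ Y)
      convert this using 1
      ext; simp
  let xt : Presieve.FamilyOfElements (Tot F) (Sieve.overEquiv Z R).arrows :=
    fun Y g hg => mk (Over.mk (g ≫ Z.hom)) (x _ (hmem g hg))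
  have key : ∀ {Y : Over S} (k : Y ⟶ Z) (hk : R.arrows k), xt k.left (hmem' k hk) = mk Y (x k hk) := by
    intro Y k hk
    have h1 := hx' k (Over.homMk (𝟙 _) : Over.mk (k.left ≫ Z.hom) ⟶ Y) hk
    have h2 := map_mk (Over.homMk (𝟙 _) : Over.mk (k.left ≫ Z.hom) ⟶ Y) (x k hk)
    rw [← h1] at h2
    have h3 : (Tot F).map (Over.homMk (𝟙 _) : Over.mk (k.left ≫ Z.hom) ⟶ Y).left.op (mk Y (x k hk)) =
        mk Y (x k hk) := (Tot F).map_id_apply _ _
    rw [h3] at h2
    rw [h2]
    have h4 : (Over.homMk k.left : Over.mk (k.left ≫ Z.hom) ⟶ Z) =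
      (Over.homMk (𝟙 _) : Over.mk (k.left ≫ Z.hom) ⟶ Y) ≫ k := by ext; simp
    simp only [xt]
    congr 1
    congr 1
  have hxt : xt.Compatible := by
    rw [Presieve.compatible_iff_sieveCompatible]
    intro Y W f g hf
    have h1 := key ((Over.homMk g (by simp) : Over.mk ((g ≫ f) ≫ Z.hom) ⟶ Over.mk (f ≫ Z.hom)) ≫
      (Over.homMk f : Over.mk (f ≫ Z.hom) ⟶ Z)) (R.downward_closed (hmem f hf) _)
    rw [hx' _ _ (hmem f hf), ← map_mk] at h1
    exact h1
  obtain ⟨z, hz, hzu⟩ := h xt hxt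
  have hz1 : z.1 = Z.hom := by
    refine hS (fun Y g hg => g ≫ Z.hom) _ _ (fun Y g hg => ?_) (fun Y g hg => rfl)
    change g ≫ z.1 = g ≫ Z.hom
    rw [← map_fst, hz g hg]
    rfl
  refine ⟨tr Z z hz1, ?_, ?_⟩
  · intro Y k hk
    apply mk_injective
    rw [← map_mk, mk_tr, hz _ (hmem' k hk), key]
  · intro y hy
    apply mk_injective
    rw [mk_tr]
    refine hzu _ fun Y g hg => ?_
    have h1 := map_mk (Over.homMk g : Over.mk (g ≫ Z.hom) ⟶ Z) y
    rw [hy _ (hmem g hg)] at h1
    exact h1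

end

section Scheme

variable {S : Scheme.{u}}

/-- Criterion for a presheaf on schemes over `S` to be a sheaf for the fpqc topology. -/
theorem isSheaf_fpqc_over (F : (Over S)ᵒᵖ ⥤ Type w)
    (hZ : Presieve.IsSheaf (Scheme.zariskiTopology.over S) F)
    (hA : ∀ {A B : CommRingCat.{u}} (f : A ⟶ B), Flat (Spec.map f) → Surjective (Spec.map f) →
      ∀ (t : Spec A ⟶ S) (c : F.obj (op (Over.mk (Spec.map f ≫ t)))),
      (∀ (Y : Over S) (a b : Y ⟶ Over.mk (Spec.map f ≫ t)),
        a.left ≫ Spec.map f = b.left ≫ Spec.map f → F.map a.op c = F.map b.op c) →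
      ∃! d : F.obj (op (Over.mk t)),
        F.map (Over.homMk (Spec.map f) : Over.mk (Spec.map f ≫ t) ⟶ Over.mk t).op d = c) :
    Presieve.IsSheaf (Scheme.fpqcTopology.over S) F := by
  have hyon : Presieve.IsSheaf Scheme.fpqcTopology (yoneda.obj S) :=
    GrothendieckTopology.Subcanonical.isSheaf_of_isRepresentable (J := Scheme.fpqcTopology) _
  have hyonZ : Presieve.IsSheaf Scheme.zariskiTopology (yoneda.obj S) :=
    Presieve.isSheaf_of_le _ Scheme.zariskiTopology_le_fpqcTopology hyon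
  have hT : Presieve.IsSheaf Scheme.fpqcTopology (Tot F) := by
    refine (isSheaf_type_propQCTopology_iff (P := @Flat) (Tot F)).2 ⟨?_, ?_⟩
    · intro T R hR
      refine isSheafFor_tot R (hyonZ R hR) fun t => hZ _ ?_
      refine (GrothendieckTopology.mem_over_iff _ _).2 ?_
      have h1 := (Sieve.overEquiv (Over.mk t)).apply_symm_apply R
      exact (congrArg (fun R' => R' ∈ Scheme.zariskiTopology T) h1).mpr hR
    · intro A B f hf hs
      rw [Presieve.isSheafFor_singleton]
      intro z hz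
      -- the structure map descends
      have h1 := ((isSheaf_type_propQCTopology_iff (P := @Flat) (yoneda.obj S)).1 hyon).2 f hf hs
      rw [Presieve.isSheafFor_singleton] at h1
      obtain ⟨t, ht, htu⟩ := h1 z.1 fun {Z} p₁ p₂ h => by
        have := congrArg Sigma.fst (hz p₁ p₂ h)
        exact this
      have ht' : z.1 = Spec.map f ≫ t := ht.symm
      let c : F.obj (op (Over.mk (Spec.map f ≫ t))) := tr (Over.mk (Spec.map f ≫ t)) z ht'
      have hc : mk (Over.mk (Spec.map f ≫ t)) c = z := mk_tr _ _ _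
      obtain ⟨d, hd, hdu⟩ := hA f hf hs t c fun Y a b hab => by
        apply mk_injective
        rw [← map_mk, ← map_mk, hc]
        exact hz _ _ hab
      refine ⟨mk (Over.mk t) d, ?_, ?_⟩
      · have h2 := map_mk (Over.homMk (Spec.map f) : Over.mk (Spec.map f ≫ t) ⟶ Over.mk t) d
        rw [hd, hc] at h2
        exact h2
      · intro y hy
        have hy1 : y.1 = t := htu _ (by
          change Spec.map f ≫ y.1 = z.1
          rw [← hy]; rfl)
        rw [← mk_tr (Over.mk t) y hy1]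
        congr 1
        refine hdu _ ?_
        apply mk_injective
        rw [← map_mk, mk_tr, hc]
        exact hy
  intro Z R hR
  have hR' : Sieve.overEquiv Z R ∈ Scheme.fpqcTopology Z.left := by
    rwa [GrothendieckTopology.mem_over_iff] at hR
  exact isSheafFor_of_tot Z R (hyon _ hR').isSeparatedFor (hT _ hR')

end Scheme

end K630.TotPsh
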