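import Groth.Agent.AlgSp.K630.FpqcDatum
import Groth.Agent.AlgSp.K630.Tot
import Groth.Agent.AlgSp.K642.Charts
import Groth.Agent.AlgSp.K642.EtCov
import Groth.Agent.AlgSp.K642.Glue

/-!
Algebraic spaces are fpqc sheaves.
-/

set_option autoImplicit false
universe u
open CategoryTheory CategoryTheory.Limits AlgebraicGeometry Opposite
open AlgSp

namespace K630.FpqcSp

variable {S : Scheme.{u}} {X : Sp S}

theorem ofPt_yon {U V : Over S} (g : U ⟶ V) (x : U.left) :
    Points.ofPt ((yon S).map g) x = Points.schemeHomeo V (g.left x) := by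
  have := K642.EtCov.ofPt_yon_map g (𝟙 ((yon S).obj V)) x
  rwa [Category.comp_id] at this

/-- Descent of maps from schemes to algebraic spaces along fpqc coverings. -/
theorem exists_of_fpqc (hX : IsAlgSpace X) {T T' : Over S} (p : T' ⟶ T) [Flat p.left]
    [Surjective p.left] [QuasiCompact p.left] (c : (yon S).obj T' ⟶ X)
    (hc : ∀ (R : Over S) (a b : R ⟶ T'), a ≫ p = b ≫ p →
      (yon S).map a ≫ c = (yon S).map b ≫ c) : ∃ d : (yon S).obj T ⟶ X, (yon S).map p ≫ d = c := by
  obtain ⟨ι, V, m, hV, hm, hms⟩ := K642.Charts.exists_affine_charts X hX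
  -- the fibre products with the charts
  have h1 : ∀ i, ∃ (W : Over S) (l : W ⟶ V i) (w : W ⟶ T'),
      IsPullback ((yon S).map l) ((yon S).map w) (m i) c := by
    intro i
    obtain ⟨W, w, l, sq⟩ := (hm i).1 c
    obtain ⟨l, rfl⟩ := (yon S).map_surjective l
    exact ⟨W, l, w, sq⟩
  choose W l w sq using h1
  have hwe : ∀ i, Etale (w i).left := fun i => (hm i).2 _ _ _ (sq i)
  have hws : ∀ i, IsSeparated (w i).left := fun i =>
    (isSeparatedMor_yon_map_iff _).1 (K642.Charts.isSeparatedMor_of_isPullback (sq i)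
      (K642.Charts.isSeparatedMor_of_isAffine (hV i) _))
  -- descended charts
  choose W₀ w₀ q l₀ hw₀ sq₀ hql using fun i => exists_descent (sq i) hc
  let d : ∀ i, (yon S).obj (W₀ i) ⟶ X := fun i => (yon S).map (l₀ i) ≫ m i
  have hd : ∀ i, (yon S).map (q i) ≫ d i = (yon S).map (w i) ≫ c := fun i => by
    rw [← Category.assoc, ← Functor.map_comp, hql, (sq i).w]
  have hcov' : ∀ t : T'.left, ∃ (i : ι) (x : (W i).left), (w i).left x = t := by
    intro t
    obtain ⟨i, v, hv⟩ := hms (Points.ofPt c t)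
    obtain ⟨x, hx⟩ := K642.EtCov.mem_range_of_ofPt_eq (sq i) hv
    exact ⟨i, x, hx⟩
  have hcov : ∀ t : T.left, ∃ (i : ι) (x : (W₀ i).left), (w₀ i).left x = t := by
    intro t
    obtain ⟨t', rfl⟩ := p.left.surjective t
    obtain ⟨i, x, rfl⟩ := hcov' t'
    refine ⟨i, (q i).left x, ?_⟩
    rw [← Scheme.Hom.comp_apply, ← Scheme.Hom.comp_apply, ← Over.comp_left, ← Over.comp_left,
      (sq₀ i).w]
  have jls : K642.Glue.JLS (J := AlgSp.J S) (fun i => (yon S).obj (W₀ i))
      (fun i => (yon S).map (w₀ i)) := by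
    refine K642.EtCov.jls_of_repWith_etale _ (fun i => (repWith_yon_map_iff _ _).2 (hw₀ i)) ?_
    intro x
    obtain ⟨t, rfl⟩ := (Points.schemeHomeo _).surjective x
    obtain ⟨i, x, rfl⟩ := hcov t
    exact ⟨i, x, ofPt_yon (w₀ i) x⟩
  have jls' : K642.Glue.JLS (J := AlgSp.J S) (fun i => (yon S).obj (W i))
      (fun i => (yon S).map (w i)) := by
    refine K642.EtCov.jls_of_repWith_etale _ (fun i => (repWith_yon_map_iff _ _).2 (hwe i)) ?_
    intro x
    obtain ⟨t, rfl⟩ := (Points.schemeHomeo _).surjective x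
    obtain ⟨i, x, rfl⟩ := hcov' t
    exact ⟨i, x, ofPt_yon (w i) x⟩
  obtain ⟨δ, hδ, -⟩ := jls.exists_hom_of_isPullback d
    (fun i j => (yon S).obj (pullback (w₀ i) (w₀ j)))
    (fun i j => (yon S).map (pullback.fst _ _)) (fun i j => (yon S).map (pullback.snd _ _))
    (fun i j => (IsPullback.of_hasPullback (w₀ i) (w₀ j)).map (yon S)) (by
      intro i j
      have sqR := IsPullback.of_hasPullback (pullback.fst (w₀ i) (w₀ j) ≫ w₀ i) p
      have sqRl := sqR.map (Over.forget S)
      have hf : Flat (pullback.fst (pullback.fst (w₀ i) (w₀ j) ≫ w₀ i) p).left :=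
        MorphismProperty.of_isPullback (P := @Flat) sqRl.flip ‹Flat p.left›
      have hs : Surjective (pullback.fst (pullback.fst (w₀ i) (w₀ j) ≫ w₀ i) p).left :=
        MorphismProperty.of_isPullback (P := @Surjective) sqRl.flip ‹Surjective p.left›
      have hq : QuasiCompact (pullback.fst (pullback.fst (w₀ i) (w₀ j) ≫ w₀ i) p).left :=
        MorphismProperty.of_isPullback (P := @QuasiCompact) sqRl.flip ‹QuasiCompact p.left›
      refine eq_of_fpqc hX (pullback.fst (pullback.fst (w₀ i) (w₀ j) ≫ w₀ i) p) _ _ ?_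
      obtain ⟨r1, hr1⟩ : ∃ r, r = pullback.fst (pullback.fst (w₀ i) (w₀ j) ≫ w₀ i) p := ⟨_, rfl⟩
      obtain ⟨r2, hr2⟩ : ∃ r, r = pullback.snd (pullback.fst (w₀ i) (w₀ j) ≫ w₀ i) p := ⟨_, rfl⟩
      have hr : r1 ≫ pullback.fst (w₀ i) (w₀ j) ≫ w₀ i = r2 ≫ p := by
        rw [hr1, hr2]
        exact sqR.w
      rw [← hr1]
      have e1 : r2 ≫ p = (r1 ≫ pullback.fst (w₀ i) (w₀ j)) ≫ w₀ i := by
        rw [← hr, Category.assoc]
      have e2 : r2 ≫ p = (r1 ≫ pullback.snd (w₀ i) (w₀ j)) ≫ w₀ j := by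
        rw [← hr, Category.assoc]
        exact congrArg (r1 ≫ ·) pullback.condition
      have k1 : (yon S).map r1 ≫ (yon S).map (pullback.fst (w₀ i) (w₀ j)) ≫ d i =
          (yon S).map r2 ≫ c := by
        rw [← Category.assoc, ← Functor.map_comp, ← (sq₀ i).lift_snd _ _ e1, Functor.map_comp,
          Category.assoc, hd, ← Category.assoc, ← Functor.map_comp, (sq₀ i).lift_fst]
      have k2 : (yon S).map r1 ≫ (yon S).map (pullback.snd (w₀ i) (w₀ j)) ≫ d j =
          (yon S).map r2 ≫ c := by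
        rw [← Category.assoc, ← Functor.map_comp, ← (sq₀ j).lift_snd _ _ e2, Functor.map_comp,
          Category.assoc, hd, ← Category.assoc, ← Functor.map_comp, (sq₀ j).lift_fst]
      rw [k1, k2])
  refine ⟨δ, ?_⟩
  refine jls'.hom_ext fun i => ?_
  rw [← Category.assoc, ← Functor.map_comp, (sq₀ i).w, Functor.map_comp, Category.assoc, hδ, hd]

/-- Algebraic spaces are sheaves for the fpqc topology. -/
theorem isSheaf_fpqc (hX : IsAlgSpace X) :
    Presheaf.IsSheaf (Scheme.fpqcTopology.over S) X.obj := by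
  rw [isSheaf_iff_isSheaf_of_type]
  have hX' : Presieve.IsSheaf (AlgSp.J S) X.obj :=
    (isSheaf_iff_isSheaf_of_type _ _).1 X.property
  refine TotPsh.isSheaf_fpqc_over X.obj ?_ ?_
  · refine Presieve.isSheaf_of_le _ ?_ hX'
    intro Z R hR
    rw [GrothendieckTopology.mem_over_iff] at hR ⊢
    exact Precoverage.toGrothendieck_mono Scheme.zariskiPrecoverage_le_fppfPrecoverage _ hR
  · intro A B f hf hs t c hc
    let E := fun U : Over S => GrothendieckTopology.uliftYonedaEquiv.{u + 1} (J S) (X := U) (F := X)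
    let p : Over.mk (Spec.map f ≫ t) ⟶ Over.mk t := Over.homMk (Spec.map f)
    have hp1 : Flat p.left := hf
    have hp2 : Surjective p.left := hs
    have hp3 : QuasiCompact p.left := inferInstanceAs (QuasiCompact (Spec.map f))
    have hnat : ∀ {U V : Over S} (g : U ⟶ V) (x : (yon S).obj V ⟶ X),
        (E U) ((yon S).map g ≫ x) = X.obj.map g.op ((E V) x) := by
      intro U V g x
      exact (GrothendieckTopology.uliftYonedaEquiv_naturality (J S) x g).symm
    obtain ⟨d, hd⟩ := exists_of_fpqc hX p ((E _).symm c) fun R a b hab => by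
      apply (E R).injective
      rw [hnat, hnat, Equiv.apply_symm_apply]
      exact hc R a b (congrArg (fun k => k.left) hab)
    refine ⟨(E _) d, ?_, ?_⟩
    · have := hnat p d
      rw [hd, Equiv.apply_symm_apply] at this
      exact this.symm
    · intro y hy
      rw [← Equiv.symm_apply_eq]
      refine eq_of_fpqc hX p _ _ ?_
      rw [hd]
      apply (E _).injective
      rw [hnat, Equiv.apply_symm_apply, Equiv.apply_symm_apply]
      exact hy

end K630.FpqcSp
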