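import Groth.Agent.AlgSp.K630.FpqcBasic
import Groth.Agent.AlgSp.K630.FpqcExists

/-!
S10572: morphisms to an algebraic space form a sheaf for fpqc coverings of algebraic spaces.
-/

set_option autoImplicit false
universe u
open CategoryTheory CategoryTheory.Limits AlgebraicGeometry Opposite
open AlgSp

namespace K630

variable {S : Scheme.{u}}

theorem isSheaf_fpqc {X : Sp S} (hX : IsAlgSpace X) :
    Presheaf.IsSheaf (Scheme.fpqcTopology.over S) X.obj :=
  FpqcSp.isSheaf_fpqc hX

/-- For an fpqc covering, every section of the target lifts locally for the fpqc topology. -/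
theorem liftSieve_mem {ι : Type u} {T : Sp S} (Ti : ι → Sp S) (g : ∀ i, Ti i ⟶ T)
    (hg : IsFpqcCover Ti g) (Z : Over S) (t : T.obj.obj (op Z)) :
    liftSieve (fun i => (g i).hom) t ∈ (Scheme.fpqcTopology.over S) Z := by
  refine mem_fpqcTopology_over _ fun U hU => ?_
  have hA : IsAffine (Over.mk (U.ι ≫ Z.hom)).left := hU
  let r : Over.mk (U.ι ≫ Z.hom) ⟶ Z := Over.homMk U.ι
  obtain ⟨m, W, c, hW, hc, hs, hl⟩ := hg.2 (Over.mk (U.ι ≫ Z.hom)) hA
    ((J S).uliftYonedaEquiv.symm (T.obj.map r.op t))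
  refine ⟨m, W, c, hW, hc, hs, fun j => ?_⟩
  obtain ⟨i, l, e⟩ := hl j
  refine ⟨i, (J S).uliftYonedaEquiv l, ?_⟩
  have e' := congrArg (GrothendieckTopology.uliftYonedaEquiv.{u + 1} (J S)) e
  rw [GrothendieckTopology.uliftYonedaEquiv_comp] at e'
  change (g i).hom.app _ _ = _ at e'
  refine e'.trans ?_
  rw [GrothendieckTopology.uliftYonedaEquiv_symm_naturality_left, Equiv.apply_symm_apply,
    op_comp, Functor.map_comp_apply]

theorem hom_ext_of_fpqc {ι : Type u} {T B : Sp S} (Ti : ι → Sp S) (g : ∀ i, Ti i ⟶ T)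
    (hg : IsFpqcCover Ti g) (hB : IsAlgSpace B) (a b : T ⟶ B) (h : ∀ i, g i ≫ a = g i ≫ b) :
    a = b := by
  apply Sheaf.hom_ext
  exact ext_of_liftSieve (Scheme.fpqcTopology.over S) (g := fun i => (g i).hom)
    ((isSheaf_iff_isSheaf_of_type _ _).1 (isSheaf_fpqc hB)).isSeparated
    (fun Z t => liftSieve_mem Ti g hg Z t) a.hom b.hom
    fun i => congrArg (fun q => q.hom) (h i)

theorem exists_glue_of_fpqc {ι : Type u} {T B : Sp S} (Ti : ι → Sp S) (g : ∀ i, Ti i ⟶ T)
    (hg : IsFpqcCover Ti g) (hB : IsAlgSpace B) (b : ∀ i, Ti i ⟶ B)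
    (hc : ∀ i j, pullback.fst (g i) (g j) ≫ b i = pullback.snd (g i) (g j) ≫ b j) :
    ∃ β : T ⟶ B, ∀ i, g i ≫ β = b i := by
  obtain ⟨β, hβ⟩ := exists_of_liftSieve (Scheme.fpqcTopology.over S) (g := fun i => (g i).hom)
    ((isSheaf_iff_isSheaf_of_type _ _).1 (isSheaf_fpqc hB))
    (fun Z t => liftSieve_mem Ti g hg Z t) (fun i => (b i).hom) (by
      intro Z i j x y hxy
      let x' := (GrothendieckTopology.uliftYonedaEquiv.{u + 1} (J S)).symm x
      let y' := (GrothendieckTopology.uliftYonedaEquiv.{u + 1} (J S)).symm y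
      have hx : x' ≫ g i = y' ≫ g j := by
        apply (GrothendieckTopology.uliftYonedaEquiv.{u + 1} (J S)).injective
        rw [GrothendieckTopology.uliftYonedaEquiv_comp, GrothendieckTopology.uliftYonedaEquiv_comp,
          Equiv.apply_symm_apply, Equiv.apply_symm_apply]
        exact hxy
      have h1 : x' ≫ b i = y' ≫ b j := by
        have h3 := congrArg (fun q => pullback.lift x' y' hx ≫ q) (hc i j)
        have h4 : (pullback.lift x' y' hx ≫ pullback.fst (g i) (g j)) ≫ b i =
            (pullback.lift x' y' hx ≫ pullback.snd (g i) (g j)) ≫ b j := by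
          rw [Category.assoc, Category.assoc]
          exact h3
        rwa [pullback.lift_fst, pullback.lift_snd] at h4
      have h2 := congrArg (GrothendieckTopology.uliftYonedaEquiv.{u + 1} (J S)) h1
      rw [GrothendieckTopology.uliftYonedaEquiv_comp, GrothendieckTopology.uliftYonedaEquiv_comp,
          Equiv.apply_symm_apply, Equiv.apply_symm_apply] at h2
      exact h2)
  exact ⟨⟨β⟩, fun i => Sheaf.hom_ext (hβ i)⟩

end K630
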