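import Groth.Agent.AlgSp.K630.FpqcBasic
import Groth.Agent.AlgSp.K630.PtsPullback

/-!
S10573: descent of opens along fpqc coverings of algebraic spaces.
-/

set_option autoImplicit false
universe u
open CategoryTheory CategoryTheory.Limits AlgebraicGeometry Opposite
open AlgSp

namespace K630

variable {S : Scheme.{u}}

theorem ofPt_yon_map {T T' : Over S} (φ : T ⟶ T') (t : T.left) :
    Points.ofPt ((yon S).map φ) t = Points.ofScheme T' (φ.left t) := by
  apply (Points.schemeEquiv T').symm.injective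
  exact (Points.toScheme_ofPt φ t).trans (Points.toScheme_ofScheme T' (φ.left t)).symm

theorem ofPt_yon_map_comp {F : Sp S} {T T' : Over S} (φ : T ⟶ T') (g : (yon S).obj T' ⟶ F)
    (t : T.left) : Points.ofPt ((yon S).map φ ≫ g) t = Points.ofPt g (φ.left t) := by
  rw [← Points.map_ofPt, ofPt_yon_map, ← Points.ofPt_eq_map_ofScheme]

theorem ofPt_comp {F G : Sp S} {T : Over S} (g : (yon S).obj T ⟶ F) (f : F ⟶ G)
    (t : T.left) : Points.ofPt (g ≫ f) t = Points.map f (Points.ofPt g t) := rfl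

/-- Every point of a sheaf comes from a map from the spectrum of a field. -/
theorem exists_ofPt {F : Sp S} (x : Points F) :
    ∃ (Z : Over S) (_ : IsAffine Z.left) (h : (yon S).obj Z ⟶ F) (z : Z.left),
      Points.ofPt h z = x := by
  induction x using Points.ind with
  | h p =>
    refine ⟨Over.mk p.str, inferInstanceAs (IsAffine (Spec _)),
      (GrothendieckTopology.uliftYonedaEquiv.{u + 1} (J S)).symm p.val,
      IsLocalRing.closedPoint p.K, ?_⟩
    rw [Points.ofPt_eq_map_ofScheme]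
    have := Points.ofScheme_apply_eq_mk (Over.mk p.str) (𝟙 (Spec (.of p.K))) (str := p.str)
      (Category.id_comp _)
    rw [show Points.ofScheme (Over.mk p.str) (IsLocalRing.closedPoint p.K) = _ from this,
      Points.map_mk]
    have e : ((GrothendieckTopology.uliftYonedaEquiv.{u + 1} (J S)).symm p.val).hom.app
        (op (Over.mk p.str)) ⟨Over.homMk (𝟙 (Spec (.of p.K))) (Category.id_comp _)⟩ = p.val := by
      have h1 : (Over.homMk (𝟙 (Spec (.of p.K))) (Category.id_comp _) :
        Over.mk p.str ⟶ Over.mk p.str) = 𝟙 _ := by ext1; rfl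
      rw [h1]
      have h2 := (GrothendieckTopology.uliftYonedaEquiv.{u + 1} (J S)).apply_symm_apply p.val
      rwa [GrothendieckTopology.uliftYonedaEquiv_apply] at h2
    change Points.mk ⟨p.K, p.str, _⟩ = Points.mk ⟨p.K, p.str, p.val⟩
    rw [e]

theorem fpqc_jointly_surjective {ι : Type u} {T : Sp S} (Ti : ι → Sp S) (g : ∀ i, Ti i ⟶ T)
    (hg : IsFpqcCover Ti g) (x : Points T) : ∃ i, x ∈ Set.range (Points.map (g i)) := by
  obtain ⟨Z, hZ, h, z, rfl⟩ := exists_ofPt x
  obtain ⟨m, W, c, hW, hc, hs, hl⟩ := hg.2 Z hZ h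
  obtain ⟨j, w, rfl⟩ := hs z
  obtain ⟨i, l, e⟩ := hl j
  refine ⟨i, Points.ofPt l w, ?_⟩
  rw [Points.map_ofPt, e, ofPt_yon_map_comp]

/-- A subset of the points whose preimages in the members of an fpqc covering are open is open. -/
theorem isOpen_of_fpqc {ι : Type u} {T : Sp S} (Ti : ι → Sp S) (g : ∀ i, Ti i ⟶ T)
    (hg : IsFpqcCover Ti g) (W : Set (Points T)) (hW : ∀ i, IsOpen (Points.map (g i) ⁻¹' W)) :
    IsOpen W := by
  rw [Points.isOpen_iff]
  -- affine case
  have aff : ∀ (Z : Over S), IsAffine Z.left → ∀ h : (yon S).obj Z ⟶ T,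
      IsOpen (Points.ofPt h ⁻¹' W) := by
    intro Z hZ h
    obtain ⟨m, V, c, hV, hc, hs, hl⟩ := hg.2 Z hZ h
    refine isOpen_of_flat_family (fun j => (V j).left) (fun j => (c j).left) hV hc hs _
      fun j => ?_
    obtain ⟨i, l, e⟩ := hl j
    have : (c j).left ⁻¹' (Points.ofPt h ⁻¹' W) = Points.ofPt l ⁻¹' (Points.map (g i) ⁻¹' W) := by
      ext w
      change Points.ofPt h ((c j).left w) ∈ W ↔ Points.map (g i) (Points.ofPt l w) ∈ W
      rw [← ofPt_yon_map_comp, ← e, Points.map_ofPt]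
    rw [this]
    exact (hW i).preimage (Points.continuous_ofPt l)
  intro Z h
  refine (Z.left.affineOpenCover.openCover.isOpenCover_opensRange).isOpen_iff_inter.2 fun j => ?_
  let U := (Z.left.affineOpenCover.openCover.f j).opensRange
  have hU : IsAffineOpen U := isAffineOpen_opensRange _
  let r : Over.mk (U.ι ≫ Z.hom) ⟶ Z := Over.homMk U.ι
  have h1 := aff (Over.mk (U.ι ≫ Z.hom)) hU ((yon S).map r ≫ h)
  have h2 := U.ι.isOpenEmbedding.isOpenMap _ h1
  convert h2 using 1
  ext x
  constructor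
  · rintro ⟨hx, hxU⟩
    refine ⟨⟨x, hxU⟩, ?_, rfl⟩
    change Points.ofPt ((yon S).map r ≫ h) _ ∈ W
    rw [ofPt_yon_map_comp]
    exact hx
  · rintro ⟨y, hy, rfl⟩
    refine ⟨?_, y.2⟩
    change Points.ofPt ((yon S).map r ≫ h) y ∈ W at hy
    rw [ofPt_yon_map_comp] at hy
    exact hy

end K630
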