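import Groth.Agent.AlgSp.K630.Kit
import Mathlib.AlgebraicGeometry.Morphisms.LocalFlatDescent

/-!
Morphisms from schemes to algebraic spaces are separated for fpqc coverings.
-/

set_option autoImplicit false
universe u
open CategoryTheory CategoryTheory.Limits AlgebraicGeometry Opposite
open AlgSp

namespace K630.FpqcSp

variable {S : Scheme.{u}} {X : Sp S}

/-- Two maps `h_T ⟶ X` to an algebraic space which agree on an fpqc covering are equal. -/
theorem eq_of_fpqc (hX : IsAlgSpace X) {T T' : Over S} (p : T' ⟶ T) [Flat p.left]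
    [Surjective p.left] [QuasiCompact p.left] (a b : (yon S).obj T ⟶ X)
    (h : (yon S).map p ≫ a = (yon S).map p ≫ b) : a = b := by
  obtain ⟨E, e, he⟩ := K613.Chart.representable_diag_iff.1 hX.diag T a b
  obtain ⟨r, hr, -⟩ := he.lift _ p h
  have hm := he.mono
  have h1 : Mono e.left := inferInstance
  have hr' : r.left ≫ e.left = p.left := congrArg (fun k => k.left) hr
  have h2 : IsIso e.left := by
    have h3 : IsIso (pullback.fst p.left e.left) := by
      have h4 : pullback.lift (𝟙 _) r.left (by rw [Category.id_comp, hr']) ≫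
        pullback.fst p.left e.left = 𝟙 _ := pullback.lift_fst _ _ _
      have : IsSplitEpi (pullback.fst p.left e.left) := ⟨⟨⟨_, h4⟩⟩⟩
      exact isIso_of_mono_of_isSplitEpi _
    exact MorphismProperty.of_pullback_fst_of_descendsAlong
      (P := MorphismProperty.isomorphisms Scheme.{u}) (Q := @Surjective ⊓ @Flat ⊓ @QuasiCompact)
      ⟨⟨‹_›, ‹_›⟩, ‹_›⟩ h3
  have h5 : IsIso e := by
    have : IsIso ((Over.forget S).map e) := h2
    exact isIso_of_reflects_iso e (Over.forget S)
  have h6 : IsIso ((yon S).map e) := inferInstance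
  rw [← cancel_epi ((yon S).map e)]
  exact he.w

end K630.FpqcSp
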