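import Groth.Agent.AlgSp.K630.STSmooth

/-!
The largest open subspace of the target over which a property local on the base holds
(S10574, S10575, S10576 in a common form).
-/

set_option autoImplicit false
universe u
open CategoryTheory CategoryTheory.Limits AlgebraicGeometry
open AlgSp

namespace K630

variable {S : Scheme.{u}}

/-- Maps of sheaves representable by monomorphisms are monomorphisms. -/
theorem mono_of_repWith {P : MorphismProperty Scheme.{u}} (hP : P ≤ MorphismProperty.monomorphisms _)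
    {X Y : Sp S} {j : X ⟶ Y} (hj : RepWith P j) : Mono j := by
  refine ⟨fun {Z} a b hab => GrothendieckTopology.hom_ext_uliftYoneda.{u + 1} (J S) fun T t => ?_⟩
  have hab' : (t ≫ a) ≫ j = (t ≫ b) ≫ j := by simp only [Category.assoc, hab]
  obtain ⟨V, snd, fst, sq⟩ := hj.1 ((t ≫ a) ≫ j)
  have hm : Mono snd.left := hP _ (hj.2 _ fst snd sq)
  have hm' : Mono snd := ⟨fun u v huv => Over.OverMorphism.ext (by
    rw [← cancel_mono snd.left]
    exact congrArg (fun q => q.left) huv)⟩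
  obtain ⟨α, hα⟩ := (yon S).map_surjective (sq.lift (t ≫ a) (𝟙 _) (by rw [Category.id_comp]))
  obtain ⟨β, hβ⟩ := (yon S).map_surjective (sq.lift (t ≫ b) (𝟙 _)
    (by rw [Category.id_comp]; exact hab'.symm))
  have h1 : α ≫ snd = 𝟙 _ := (yon S).map_injective (by
    rw [(yon S).map_comp, hα, IsPullback.lift_snd, (yon S).map_id])
  have h2 : β ≫ snd = 𝟙 _ := (yon S).map_injective (by
    rw [(yon S).map_comp, hβ, IsPullback.lift_snd, (yon S).map_id])
  have h3 : α = β := by rw [← cancel_mono snd, h1, h2]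
  have : (yon S).map α ≫ fst = (yon S).map β ≫ fst := by rw [h3]
  rwa [hα, hβ, IsPullback.lift_fst, IsPullback.lift_fst] at this

theorem mono_of_isOpenImmersion {X Y : Sp S} {j : X ⟶ Y} (hj : RepWith @IsOpenImmersion j) :
    Mono j :=
  mono_of_repWith (fun _ _ f hf => by
    have : IsOpenImmersion f := hf
    exact MorphismProperty.monomorphisms.infer_property f) hj

/-- If `k ≫ j = g` with `j` a monomorphism then `k` is the base change of `g` along `j`. -/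
theorem isPullback_of_mono {A B C : Sp S} {k : A ⟶ B} {j : B ⟶ C} {g : A ⟶ C} [Mono j]
    (h : k ≫ j = g) : IsPullback (𝟙 A) k g j :=
  IsPullback.of_isLimit' ⟨by rw [Category.id_comp, h]⟩
    (PullbackCone.IsLimit.mk _ (fun s => s.fst)
      (fun s => Category.comp_id _)
      (fun s => by rw [← cancel_mono j, Category.assoc, h, s.condition])
      (fun s m h1 _ => by rw [← h1, Category.comp_id]))

/-- What is used of the class of members of the coverings. -/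
structure CovClass (Q : MorphismProperty (Sp S)) : Prop where
  openImm : ∀ ⦃X Y : Sp S⦄, IsAlgSpace X → IsAlgSpace Y → ∀ (j : X ⟶ Y),
    RepWith @IsOpenImmersion j → Q j
  comp : ∀ ⦃X Y Z : Sp S⦄, IsAlgSpace X → IsAlgSpace Y → IsAlgSpace Z →
    ∀ (f : X ⟶ Y) (g : Y ⟶ Z), Q f → Q g → Q (f ≫ g)
  baseChange : ∀ ⦃X Y X' Y' : Sp S⦄, IsAlgSpace X → IsAlgSpace Y → IsAlgSpace X' → IsAlgSpace Y' →
    ∀ (f : X ⟶ Y) (g : Y' ⟶ Y) (f' : X' ⟶ Y') (g' : X' ⟶ X), IsPullback g' f' f g → Q f → Q f'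
  isOpenMap : ∀ ⦃X Y : Sp S⦄, IsAlgSpace X → IsAlgSpace Y → ∀ (f : X ⟶ Y), Q f →
    IsOpenMap (Points.map f)

theorem repWith_isOpenImmersion_id (X : Sp S) : RepWith @IsOpenImmersion (𝟙 X) := by
  have := repWith_isMultiplicative (S := S) @IsOpenImmersion
  exact MorphismProperty.id_mem _ _

theorem CovClass.id {Q : MorphismProperty (Sp S)} (hQ : CovClass Q) (X : Sp S)
    (hX : IsAlgSpace X) : Q (𝟙 X) :=
  hQ.openImm hX hX _ (repWith_isOpenImmersion_id X)

/-- `f` has `P` over the open `V` of `|Y|`. -/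
def PO (P : MorphismProperty (Sp S)) {X Y : Sp S} (f : X ⟶ Y) (V : Set (Points Y)) : Prop :=
  ∀ (W₁ X₁ : Space S) (j₁ : W₁.obj ⟶ Y) (j₁' : X₁.obj ⟶ X) (f₁ : X₁.obj ⟶ W₁.obj),
    RepWith @IsOpenImmersion j₁ → Set.range (Points.map j₁) = V →
    IsPullback j₁' f₁ f j₁ → P f₁

section

variable {Q P : MorphismProperty (Sp S)} (hQ : CovClass Q)
  (hP : IsLocalOnBase (fun _ _ Y g => IsCover Q Y g) P)

include hP

/-- Descent of `P` along a family of members of `Q` covering the target. -/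
theorem descend {ι : Type u} {X Y : Sp S} (hX : IsAlgSpace X) (hY : IsAlgSpace Y) (f : X ⟶ Y)
    (Yi : ι → Sp S) (hYi : ∀ i, IsAlgSpace (Yi i)) (g : ∀ i, Yi i ⟶ Y) (hg : ∀ i, Q (g i))
    (hsurj : ∀ y : Points Y, ∃ i, y ∈ Set.range (Points.map (g i)))
    (H : ∀ i, ∀ (X' : Sp S) (q : X' ⟶ X) (p : X' ⟶ Yi i), IsPullback q p f (g i) → P p) : P f :=
  (hP Yi g hY hYi ⟨hg, hsurj⟩ f hX (fun i => pullback f (g i)) (fun _ => pullback.snd _ _)
    (fun _ => pullback.fst _ _)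
    (fun i => isAlgSpace_of_isPullback hX (hYi i) hY (IsPullback.of_hasPullback f (g i)))
    (fun i => IsPullback.of_hasPullback f (g i))).2
    fun i => H i _ _ _ (IsPullback.of_hasPullback f (g i))

include hQ

theorem bc {X Y X' Y' : Sp S} (hX : IsAlgSpace X) (hY : IsAlgSpace Y)
    (hY' : IsAlgSpace Y') {f : X ⟶ Y} {g : Y' ⟶ Y} {f' : X' ⟶ Y'} {g' : X' ⟶ X}
    (sq : IsPullback g' f' f g) (hg : Q g) (hf : P f) : P f' :=
  baseChange_of_isLocalOnBase hP (fun X h => hQ.id X h) hX hY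
    (isAlgSpace_of_isPullback hX hY' hY sq) hY' sq hg hf

/-- part (3): a member of `Q` over which `f` acquires `P`. -/
theorem PO_range {X Y Y' X' : Sp S} (hX : IsAlgSpace X) (hY : IsAlgSpace Y) (hY' : IsAlgSpace Y')
    {f : X ⟶ Y} {g : Y' ⟶ Y} {g' : X' ⟶ X} {f' : X' ⟶ Y'} (sq : IsPullback g' f' f g)
    (hg : Q g) (hf' : P f') : PO P f (Set.range (Points.map g)) := by
  intro W₁ X₁ j₁ j₁' f₁ hj hr sq₁
  have := mono_of_isOpenImmersion hj
  obtain ⟨g₁, hg₁⟩ := (factors_open_iff j₁ hj g).2 hr.ge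
  have sqg : IsPullback (𝟙 _) g₁ g j₁ := isPullback_of_mono hg₁
  have hQg₁ : Q g₁ := hQ.baseChange hY' hY hY' W₁.property g j₁ g₁ (𝟙 _) sqg hg
  refine descend hP X₁.property W₁.property f₁ (fun _ : PUnit.{u + 1} => Y')
    (fun _ => hY') (fun _ => g₁) (fun _ => hQg₁) (fun y => ⟨PUnit.unit, ?_⟩)
    (fun _ X'' q p sq₂ => ?_)
  · have : Points.map j₁ y ∈ Set.range (Points.map g) := hr ▸ ⟨y, rfl⟩
    obtain ⟨z, hz⟩ := this
    obtain ⟨t, ht1, ht2⟩ := points_exists_lift sqg z y hz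
    exact ⟨t, ht2⟩
  · -- the base change of `f₁` along `g₁` is the base change of `f` along `g`
    have h1 : IsPullback (q ≫ j₁') p f g := by
      have := sq₂.paste_horiz sq₁
      rwa [hg₁] at this
    let e : X'' ≅ X' := h1.isoIsPullback _ _ sq
    have he : e.hom ≫ f' = p := h1.isoIsPullback_hom_snd _ _ sq
    have hX'' : IsAlgSpace X'' := isAlgSpace_of_isPullback hX hY' hY h1
    exact bc hQ hP (isAlgSpace_of_isPullback hX hY' hY sq) hY' hY'
      (IsPullback.of_horiz_isIso ⟨by rw [he, Category.comp_id]⟩ :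
        IsPullback e.hom p f' (𝟙 Y')) (hQ.id _ hY') hf'

/-- `P` over each member of a union of opens gives `P` over the union. -/
theorem PO_sUnion {X Y : Sp S} (hX : IsAlgSpace X) (hY : IsAlgSpace Y) (f : X ⟶ Y)
    (𝒱 : Set (Set (Points Y))) (hop : ∀ V ∈ 𝒱, IsOpen V) (h : ∀ V ∈ 𝒱, PO P f V) :
    PO P f (⋃₀ 𝒱) := by
  intro W₀ X₀ j₀ j₀' f₀ hj hr sq₀
  have := mono_of_isOpenImmersion hj
  obtain ⟨ι, x, hx⟩ := exists_small_points W₀.property
  have hmem : ∀ i, Points.map j₀ (x i) ∈ ⋃₀ 𝒱 := fun i => hr ▸ ⟨x i, rfl⟩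
  choose V hV hxV using fun i => Set.mem_sUnion.1 (hmem i)
  choose Y' hY' j hj' hrj using fun i => exists_open_subspace hY (V i) (hop _ (hV i))
  have hfac : ∀ i, ∃ k : Y' i ⟶ W₀.obj, k ≫ j₀ = j i := fun i =>
    (factors_open_iff j₀ hj (j i)).2 (by
      rw [hrj i, hr]
      exact Set.subset_sUnion_of_mem (hV i))
  choose k hk using hfac
  have sqk : ∀ i, IsPullback (𝟙 _) (k i) (j i) j₀ := fun i => isPullback_of_mono (hk i)
  refine descend hP X₀.property W₀.property f₀ Y' hY' k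
    (fun i => hQ.baseChange (hY' i) hY (hY' i) W₀.property _ _ _ _ (sqk i)
      (hQ.openImm (hY' i) hY _ (hj' i))) (fun y => ?_) (fun i X' q p sq' => ?_)
  · obtain ⟨i, rfl⟩ := hx y
    obtain ⟨z, hz⟩ : Points.map j₀ (x i) ∈ Set.range (Points.map (j i)) := hrj i ▸ hxV i
    obtain ⟨t, ht1, ht2⟩ := points_exists_lift (sqk i) z (x i) hz
    exact ⟨i, t, ht2⟩
  · have h1 : IsPullback (q ≫ j₀') p f (j i) := by
      have := sq'.paste_horiz sq₀
      rwa [hk i] at this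
    exact h (V i) (hV i) (mkS (hY' i)) (mkS (isAlgSpace_of_isPullback hX (hY' i) hY h1)) (j i)
      (q ≫ j₀') p (hj' i) (hrj i) h1

/-- the largest open. -/
theorem exists_largest {X Y : Sp S} (hX : IsAlgSpace X) (hY : IsAlgSpace Y) (f : X ⟶ Y) :
    ∃ W : TopologicalSpace.Opens (Points Y), PO P f (W : Set (Points Y)) ∧
      (∀ V : TopologicalSpace.Opens (Points Y), PO P f (V : Set (Points Y)) → V ≤ W) ∧
      (∀ (Y' X' : Sp S), IsAlgSpace Y' → ∀ (g : Y' ⟶ Y) (g' : X' ⟶ X) (f' : X' ⟶ Y'), Q g →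
        IsPullback g' f' f g → P f' → Set.range (Points.map g) ⊆ (W : Set (Points Y))) ∧
      (∀ (Y' X' : Sp S), IsAlgSpace Y' → ∀ (g : Y' ⟶ Y) (g' : X' ⟶ X) (f' : X' ⟶ Y'), Q g →
        IsPullback g' f' f g → ∀ W' : TopologicalSpace.Opens (Points Y'),
          PO P f' (W' : Set (Points Y')) →
          (∀ V' : TopologicalSpace.Opens (Points Y'), PO P f' (V' : Set (Points Y')) → V' ≤ W') →
          (W' : Set (Points Y')) = Points.map g ⁻¹' (W : Set (Points Y))) := by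
  let 𝒱 : Set (Set (Points Y)) := {V | IsOpen V ∧ PO P f V}
  let W : TopologicalSpace.Opens (Points Y) := ⟨⋃₀ 𝒱, isOpen_sUnion fun V hV => hV.1⟩
  have hW : PO P f (W : Set (Points Y)) :=
    PO_sUnion hQ hP hX hY f 𝒱 (fun V hV => hV.1) (fun V hV => hV.2)
  have hmax : ∀ V : Set (Points Y), IsOpen V → PO P f V → V ⊆ (W : Set (Points Y)) :=
    fun V h1 h2 => Set.subset_sUnion_of_mem ⟨h1, h2⟩
  have h3 : ∀ (Y' X' : Sp S), IsAlgSpace Y' → ∀ (g : Y' ⟶ Y) (g' : X' ⟶ X) (f' : X' ⟶ Y'), Q g →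
        IsPullback g' f' f g → P f' → Set.range (Points.map g) ⊆ (W : Set (Points Y)) := by
    intro Y' X' hY' g g' f' hg sq hf'
    exact hmax _ (hQ.isOpenMap hY' hY g hg).isOpen_range (PO_range hQ hP hX hY hY' sq hg hf')
  refine ⟨W, hW, fun V hV => hmax _ V.isOpen hV, h3, ?_⟩
  intro Y' X' hY' g g' f' hg sq W' hW' hmax'
  have hX' : IsAlgSpace X' := isAlgSpace_of_isPullback hX hY' hY sq
  apply Set.Subset.antisymm
  · -- `W' ⊆ g⁻¹ W`
    obtain ⟨W₂, hW₂, j₂, hj₂, hr₂⟩ := exists_open_subspace hY' (W' : Set (Points Y')) W'.isOpen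
    have sq₂ := IsPullback.of_hasPullback f' j₂
    have hP₂ : P (pullback.snd f' j₂) :=
      hW' (mkS hW₂) (mkS (isAlgSpace_of_isPullback hX' hW₂ hY' sq₂)) j₂ _ _ hj₂ hr₂ sq₂
    have := h3 W₂ _ hW₂ (j₂ ≫ g) _ _ (hQ.comp hW₂ hY' hY _ _ (hQ.openImm hW₂ hY' _ hj₂) hg)
      (sq₂.paste_horiz sq) hP₂
    intro y hy
    obtain ⟨z, rfl⟩ : y ∈ Set.range (Points.map j₂) := hr₂ ▸ hy
    refine this ⟨z, ?_⟩
    rw [Points.map_comp]
  · -- `g⁻¹ W ⊆ W'`
    refine hmax' ⟨Points.map g ⁻¹' (W : Set (Points Y)),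
      W.isOpen.preimage (Points.continuous_map g)⟩ ?_
    intro W₂ X₂ j₂ j₂' f₂ hj₂ hr₂ sq₂
    obtain ⟨W₀, hW₀, j₀, hj₀, hr₀⟩ := exists_open_subspace hY (W : Set (Points Y)) W.isOpen
    have hm := mono_of_isOpenImmersion hj₀
    have sq₀ := IsPullback.of_hasPullback f j₀
    have hX₀ := isAlgSpace_of_isPullback hX hW₀ hY sq₀
    have hP₀ : P (pullback.snd f j₀) := hW (mkS hW₀) (mkS hX₀) j₀ _ _ hj₀ hr₀ sq₀
    obtain ⟨k, hk⟩ := (factors_open_iff j₀ hj₀ (j₂ ≫ g)).2 (by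
      rw [hr₀]
      rintro _ ⟨z, rfl⟩
      rw [Points.map_comp]
      exact hr₂.le ⟨z, rfl⟩)
    have hQk : Q k :=
      hQ.baseChange W₂.property hY W₂.property hW₀ _ _ _ _ (isPullback_of_mono hk)
        (hQ.comp W₂.property hY' hY _ _ (hQ.openImm W₂.property hY' _ hj₂) hg)
    have sq₃ : IsPullback (j₂' ≫ g') f₂ f (k ≫ j₀) := by
      rw [hk]
      exact sq₂.paste_horiz sq
    have sq₄ := IsPullback.of_right' sq₃ sq₀
    exact bc hQ hP hX₀ hW₀ W₂.property sq₄ hQk hP₀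

end

theorem covClass_etale : CovClass (IsEtaleMor (S := S)) where
  openImm _ _ _ _ _ hj := isEtaleMor_of_isOpenImmersion hj
  comp _ _ _ _ _ _ _ _ hf hg := isEtaleMor_comp hf hg
  baseChange _ _ _ _ hX hY _ hY' _ _ _ _ sq hf := isEtaleMor_baseChange hX hY hY' sq.flip hf
  isOpenMap _ _ hX hY f hf := isOpenMap_of_isEtaleMor hX hY f hf

theorem covClass_smooth : CovClass (LocP (S := S) @Smooth) where
  openImm _ _ hX hY _ hj := smooth_of_isEtaleMor hX hY (isEtaleMor_of_isOpenImmersion hj)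
  comp _ _ _ hX hY hZ _ _ hf hg := locP_comp good_smooth hX hY hZ hf hg
  baseChange _ _ _ _ hX hY _ hY' _ _ _ _ sq hf := locP_baseChange good_smooth hX hY hY' sq hf
  isOpenMap _ _ hX hY _ hf := isOpenMap_of_flat_lfp hX hY (flat_of_smooth hf) (lfp_of_smooth hf)

/-- flat and locally of finite presentation -/
def FlatLfp : MorphismProperty (Sp S) :=
  fun _ _ f => LocP @Flat f ∧ LocP @LocallyOfFinitePresentation f

theorem covClass_fppf : CovClass (FlatLfp (S := S)) where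
  openImm _ _ hX hY _ hj := ⟨flat_of_isEtaleMor hX hY (isEtaleMor_of_isOpenImmersion hj),
    lfp_of_isEtaleMor hX hY (isEtaleMor_of_isOpenImmersion hj)⟩
  comp _ _ _ hX hY hZ _ _ hf hg := ⟨locP_comp good_flat hX hY hZ hf.1 hg.1,
    locP_comp good_lfp hX hY hZ hf.2 hg.2⟩
  baseChange _ _ _ _ hX hY _ hY' _ _ _ _ sq hf := ⟨locP_baseChange good_flat hX hY hY' sq hf.1,
    locP_baseChange good_lfp hX hY hY' sq hf.2⟩
  isOpenMap _ _ hX hY _ hf := isOpenMap_of_flat_lfp hX hY hf.1 hf.2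

end K630
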