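import Groth.Agent.AlgSp.K630.Elem
import Groth.Prelude.Def_AlgSpSub
import Groth.Agent.Etcore.SmoothRed
import Groth.Agent.FlatB.GeomRed

/-!
S10564: reducedness and smooth morphisms.
-/

set_option autoImplicit false
universe u
open CategoryTheory CategoryTheory.Limits AlgebraicGeometry
open AlgSp

namespace K630

variable {S : Scheme.{u}}

theorem isReducedSp_of_smooth {X Y : Sp S} (hX : IsAlgSpace X) (hY : IsAlgSpace Y) (f : X ⟶ Y)
    (hf : LocP @Smooth f) (h : IsReducedSp Y) : IsReducedSp X := by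
  obtain ⟨V, b, hb, hbs, hr⟩ := h
  obtain ⟨U, a, α, ha, has, e⟩ := exists_chart_lift hX f b hb hbs
  have : Smooth α.left := hf a b α ha hb e
  have : IsReduced V.left := hr
  exact ⟨U, a, ha, has, Groth.Agent.Etcore.SmoothRed.isReduced_of_smooth α.left⟩

theorem isReducedSp_of_smooth_surjective {X Y : Sp S} (hX : IsAlgSpace X) (hY : IsAlgSpace Y)
    (f : X ⟶ Y) (hf : LocP @Smooth f) (hs : IsSurjectiveMor f) (h : IsReducedSp X) :
    IsReducedSp Y := by
  obtain ⟨U, a, ha, has, hr⟩ := h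
  have : IsReduced U.left := hr
  obtain ⟨V, b, hb, hbs⟩ := hY.atlas
  -- `T = U ×_Y V`
  obtain ⟨T, t₁, t₂, sq⟩ := hb.1 (a ≫ f)
  have ht₁ : Etale t₁.left := hb.2 _ _ _ sq
  obtain ⟨t₂, rfl⟩ := (yon S).map_surjective t₂
  have hT : IsReduced T.left := Groth.Agent.Etcore.SmoothRed.isReduced_of_smooth t₁.left
  have hTX : RepWith @Etale ((yon S).map t₁ ≫ a) := by
    have := repWith_isMultiplicative (S := S) @Etale
    exact MorphismProperty.comp_mem _ _ _ ((repWith_yon_map_iff _ _).2 ht₁) ha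
  have hsm : Smooth t₂.left := hf ((yon S).map t₁ ≫ a) b t₂ hTX hb (by
    rw [Category.assoc]
    exact sq.w.symm)
  have hsurj : Surjective t₂.left := ⟨fun v => by
    obtain ⟨x, hx⟩ := hs (Points.ofPt b v)
    obtain ⟨u', rfl⟩ := (isQuotientMap_ofPt a ha has).surjective x
    have e' : Points.map b (Points.ofScheme V v) = Points.map (a ≫ f) (Points.ofScheme U u') := by
      rw [← Points.ofPt_eq_map_ofScheme, Points.map_comp, ← Points.ofPt_eq_map_ofScheme, hx]
    obtain ⟨p, hp, -⟩ := points_exists_lift sq _ _ e'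
    obtain ⟨q, rfl⟩ := (Points.schemeHomeo T).surjective p
    rw [Points.map_yon_map_apply] at hp
    exact ⟨q, (Points.schemeHomeo V).injective hp⟩⟩
  exact ⟨V, b, hb, hbs, Groth.Agent.FlatB.GeomRed.isReduced_of_flat_of_surjective t₂.left⟩

end K630
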