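import Groth.Agent.AlgSp.K630.Elem

/-!
Smooth local on source-and-target: S10565, S10566, S10567 in `Sp S` form.
-/

set_option autoImplicit false
universe u
open CategoryTheory CategoryTheory.Limits AlgebraicGeometry
open AlgSp

namespace K630

variable {S : Scheme.{u}}

/-- The points of an algebraic space are covered by a type in the small universe: for every family
indexed by points there is a small reindexing. -/
theorem exists_small_points {X : Sp S} (hX : IsAlgSpace X) :
    ∃ (ι : Type u) (x : ι → Points X), Function.Surjective x := by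
  obtain ⟨U, p, hp, hs⟩ := hX.atlas
  exact ⟨U.left, Points.ofPt p, (isQuotientMap_ofPt p hp hs).surjective⟩

/-- singleton identity family is a cover -/
theorem isCover_id {Q : MorphismProperty (Sp S)} {X : Sp S} (hid : Q (𝟙 X)) :
    IsCover Q (fun _ : PUnit.{u + 1} => X) (fun _ => 𝟙 X) :=
  ⟨fun _ => hid, fun x => ⟨PUnit.unit, x, Points.map_id x⟩⟩

/-- the family `{f, 𝟙}`. -/
def pairObj {X Y : Sp S} : (Option PUnit.{u + 1}) → Sp S
  | none => Y
  | some _ => X

/-- the family `{f, 𝟙}`. -/
def pairHom {X Y : Sp S} (f : X ⟶ Y) : ∀ i : Option PUnit.{u + 1}, pairObj (X := X) (Y := Y) i ⟶ Y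
  | none => 𝟙 Y
  | some _ => f

theorem isCover_pair {Q : MorphismProperty (Sp S)} {X Y : Sp S} {f : X ⟶ Y} (hid : Q (𝟙 Y))
    (hf : Q f) : IsCover Q (pairObj (X := X) (Y := Y)) (pairHom f) :=
  ⟨fun i => by cases i with
    | none => exact hid
    | some _ => exact hf, fun x => ⟨none, x, Points.map_id x⟩⟩

theorem pairObj_isAlgSpace {X Y : Sp S} (hX : IsAlgSpace X) (hY : IsAlgSpace Y) :
    ∀ i, IsAlgSpace (pairObj (X := X) (Y := Y) i)
  | none => hY
  | some _ => hX

/-- A property local on the source for coverings by members of `Q` is stable under precomposition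
with members of `Q`. -/
theorem precomp_of_isLocalOnSource {Q : MorphismProperty (Sp S)}
    {P : MorphismProperty (Sp S)} (hP : IsLocalOnSource (fun _ _ Y g => IsCover Q Y g) P)
    (hid : ∀ X : Sp S, IsAlgSpace X → Q (𝟙 X))
    {X Y Z : Sp S} (hX : IsAlgSpace X) (hY : IsAlgSpace Y) (hZ : IsAlgSpace Z)
    {f : X ⟶ Y} {g : Y ⟶ Z} (hf : Q f) (hg : P g) : P (f ≫ g) :=
  (hP (pairObj (X := X) (Y := Y)) (pairHom f) hY (pairObj_isAlgSpace hX hY)
    (isCover_pair (hid Y hY) hf) g hZ).1 hg (some PUnit.unit)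

/-- corners of the two squares -/
def sqObj {X X' : Sp S} : (Option PUnit.{u + 1}) → Sp S
  | none => X
  | some _ => X'

/-- A property local on the base for coverings by members of `Q` is stable under base change
along members of `Q`. -/
theorem baseChange_of_isLocalOnBase {Q : MorphismProperty (Sp S)}
    {P : MorphismProperty (Sp S)} (hP : IsLocalOnBase (fun _ _ Y g => IsCover Q Y g) P)
    (hid : ∀ X : Sp S, IsAlgSpace X → Q (𝟙 X))
    {X Y X' Y' : Sp S} (hX : IsAlgSpace X) (hY : IsAlgSpace Y) (hX' : IsAlgSpace X')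
    (hY' : IsAlgSpace Y') {f : X ⟶ Y} {g : Y' ⟶ Y} {f' : X' ⟶ Y'} {g' : X' ⟶ X}
    (sq : IsPullback g' f' f g) (hg : Q g) (hf : P f) : P f' := by
  refine (hP (pairObj (X := Y') (Y := Y)) (pairHom g) hY (pairObj_isAlgSpace hY' hY)
    (isCover_pair (hid Y hY) hg) f hX (pairObj (X := X') (Y := X))
    (fun i => match i with
      | none => f
      | some _ => f')
    (fun i => match i with
      | none => 𝟙 X
      | some _ => g') (pairObj_isAlgSpace hX' hX) ?_).1 hf (some PUnit.unit)
  rintro (_ | _)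
  · exact (IsPullback.of_horiz_isIso ⟨by rw [Category.id_comp, Category.comp_id]⟩ :
      IsPullback (𝟙 X) f f (𝟙 Y))
  · exact sq

/-- composition of covers etc: smooth local on the source from a small family. -/
theorem isSmoothLocalST_of_local {P : MorphismProperty (Sp S)}
    (h1 : IsLocalOnSource (IsSmCover (S := S)) P)
    (h2 : IsLocalOnBase (IsSmCover (S := S)) P)
    (h3 : ∀ ⦃X Y Z : Sp S⦄, IsAlgSpace X → IsAlgSpace Y → IsAlgSpace Z →
      ∀ (f : X ⟶ Y) (g : Y ⟶ Z), P f → LocP @Smooth g → P (f ≫ g)) :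
    IsSmoothLocalST P where
  precomp _ _ _ hX hY hZ f g hf hg :=
    precomp_of_isLocalOnSource h1 (fun _ h => smooth_id h) hX hY hZ hf hg
  baseChange _ _ _ _ hX hY hX' hY' f g f' g' sq hg hf :=
    baseChange_of_isLocalOnBase h2 (fun _ h => smooth_id h) hX hY hX' hY' sq hg hf
  locality X Y hX hY f := by
    constructor
    · intro hf x
      exact ⟨X, Y, 𝟙 X, 𝟙 Y, f, x, hX, hY, smooth_id hX, smooth_id hY,
        by rw [Category.id_comp, Category.comp_id], Points.map_id x, hf⟩
    · intro H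
      obtain ⟨ι, x, hx⟩ := exists_small_points hX
      choose U V a b h v hU hV ha hb e hv hPh using fun i => H (x i)
      refine (h1 (fun i => U i) (fun i => a i) hX hU ⟨ha, fun y => ?_⟩ f hY).2 fun i => ?_
      · obtain ⟨i, rfl⟩ := hx y
        exact ⟨i, v i, hv i⟩
      · rw [e i]
        exact h3 (hU i) (hV i) hY _ _ (hPh i) (hb i)

section

variable {P : MorphismProperty (Sp S)} (hP : IsSmoothLocalST P)
include hP

theorem ST_source : IsLocalOnSource (IsSmCover (S := S)) P := by
  intro ι X Xi g hX hXi hg Y f hY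
  constructor
  · intro hf i
    exact hP.precomp (hXi i) hX hY (g i) f (hg.1 i) hf
  · intro H
    refine (hP.locality hX hY f).2 fun x => ?_
    obtain ⟨i, v, hv⟩ := hg.2 x
    exact ⟨Xi i, Y, g i, 𝟙 Y, g i ≫ f, v, hXi i, hY, hg.1 i, smooth_id hY,
      (Category.comp_id _).symm, hv, H i⟩

theorem ST_base : IsLocalOnBase (IsSmCover (S := S)) P := by
  intro ι Y Yi g hY hYi hg X f hX Xi p q hXi sq
  constructor
  · intro hf i
    exact hP.baseChange hX hY (hXi i) (hYi i) f (g i) (p i) (q i) (sq i) (hg.1 i) hf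
  · intro H
    refine (hP.locality hX hY f).2 fun x => ?_
    obtain ⟨i, y, hy⟩ := hg.2 (Points.map f x)
    obtain ⟨v, hv1, hv2⟩ := points_exists_lift (sq i) x y hy.symm
    exact ⟨Xi i, Yi i, q i, g i, p i, v, hXi i, hYi i,
      locP_baseChange good_smooth (hYi i) hY hX (sq i).flip (hg.1 i), hg.1 i, (sq i).w, hv1, H i⟩

theorem ST_postcomp {X Y Z : Sp S} (hX : IsAlgSpace X) (hY : IsAlgSpace Y) (hZ : IsAlgSpace Z)
    (f : X ⟶ Y) (g : Y ⟶ Z) (hf : P f) (hg : LocP @Smooth g) : P (f ≫ g) :=
  (hP.locality hX hZ (f ≫ g)).2 fun x =>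
    ⟨X, Y, 𝟙 X, g, f, x, hX, hY, smooth_id hX, hg, Category.id_comp _, Points.map_id x, hf⟩

end

end K630
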